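import Cfsg.Agent.Lib.MinIndexOrth.Four.Orbit
import Cfsg.Agent.Lib.MinIndexOrth.Prime

/-!
The bound over at least four elements.
-/

set_option autoImplicit false
set_option linter.unusedSectionVars false

namespace CfsgLib.MinIndexOrth

open CfsgLib.Orth

variable {F : Type*} [Field F] [Finite F] {ι : Type} [Fintype ι] [DecidableEq ι]
variable {Q : QuadraticForm F (ι → F)}

local notation "B" => QuadraticMap.polar (DFunLike.coe Q)
local notation "q" => Nat.card F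

variable (hS : MinusSix Q) {P : HP Q} {M : Subgroup (Grp Q)}
include hS

theorem MinusSix.two_pow_ge : (q + 1) * (q ^ 3 + 1) ≤ 2 * q ^ 4 := by
  have hq2 := two_le_card (F := F)
  have h3 : q ^ 3 * 2 ≤ q ^ 3 * q := Nat.mul_le_mul_left _ hq2
  have h4 : 2 * 2 ≤ q ^ 2 := by rw [sq]; exact Nat.mul_le_mul hq2 hq2
  have h5 := Nat.mul_le_mul_left q h4
  ring_nf at h3 h5 ⊢
  omega

/-- The second plane of a neighbour. -/
theorem MinusSix.finrank_inf {R : HP Q} (hc : R.v ∈ P.W) (hf : R.f ∈ P.W) :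
    Module.finrank F ↥(P.W ⊓ R.W) = 2 := by
  have h1 := Submodule.finrank_sup_add_finrank_inf_eq P.W R.W
  have h2 := Submodule.finrank_le (P.W ⊔ R.W)
  have h3 := hS.finrank_W P
  have h4 := hS.finrank_W R
  have h5 := hS.dim
  have hinf : P.W ⊓ R.W ⊓ Submodule.span F (Set.range ![R.v, R.f]) = ⊥ :=
    (Submodule.eq_bot_iff _).2 fun z hz => by
      obtain ⟨c, rfl⟩ := Submodule.mem_span_range_iff_exists_fun F |>.1 hz.2
      obtain ⟨e1, e2⟩ := R.mem_W.1 hz.1.2
      simp only [Fin.sum_univ_two, Matrix.cons_val_zero, Matrix.cons_val_one, b_add_right, b_smul_right,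
        b_self_zero R.hv, b_self_zero R.hf, R.hvf, R.hfv, mul_zero, mul_one, zero_add, add_zero] at e1 e2
      simp [Fin.sum_univ_two, e1, e2]
  have h6 := Submodule.finrank_sup_add_finrank_inf_eq (P.W ⊓ R.W) (Submodule.span F (Set.range ![R.v, R.f]))
  rw [hinf, finrank_bot, finrank_span_eq_card R.linearIndependent, Fintype.card_fin] at h6
  have h7 : P.W ⊓ R.W ⊔ Submodule.span F (Set.range ![R.v, R.f]) ≤ P.W :=
    sup_le inf_le_left (Submodule.span_le.2 (by rintro _ ⟨i, rfl⟩; fin_cases i; exacts [hc, hf]))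
  have h8 := Submodule.finrank_mono h7
  omega

theorem MinusSix.aniso_inf {R : HP Q} (hc : R.v ∈ P.W) {x : ι → F} (hx : x ∈ P.W ⊓ R.W) (hxq : Q x = 0) :
    x = 0 := by
  obtain ⟨t, rfl⟩ := Submodule.mem_span_singleton.1
    (hS.mem_line P hc hx.1 R.v_ne R.hv hxq (R.mem_W.1 hx.2).1)
  have h := (R.mem_W.1 hx.2).2
  rw [b_smul_right, R.hfv, mul_one] at h
  rw [h, zero_smul]

/-- The bound from a complement. -/
theorem MinusSix.bound_of_four (hq : 4 ≤ q) (hC₀ : Compl P M hS.nondeg) :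
    (q + 1) * (q ^ 3 + 1) ≤ M.relIndex (El Q) := by
  classical
  cases nonempty_fintype F
  have hn : 5 ≤ Module.finrank F (ι → F) := by rw [hS.dim]; norm_num
  obtain ⟨P, hP⟩ := exists_pure hS.nondeg hn hq P M hC₀
  rcases P.compl_or M hS.nondeg hS.dim hP.triv with hC | h
  swap
  · exact hS.two_pow_ge.trans h
  obtain ⟨c, hcW, hc0, hcq⟩ := hS.exists_singular_W P
  obtain ⟨R, hRv, hRf⟩ := P.exists_at hS.nondeg hcW hcq hc0
  have hRvW : R.v ∈ P.W := hRv.symm ▸ hcW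
  obtain ⟨hvc, hfc⟩ := P.mem_W.1 hRvW
  obtain ⟨hvf', hff'⟩ := P.mem_W.1 hRf
  have hvR : P.v ∈ R.W := R.mem_W.2 ⟨by rw [b_comm]; exact hvc, by rw [b_comm]; exact hvf'⟩
  have hfR : P.f ∈ R.W := R.mem_W.2 ⟨by rw [b_comm]; exact hfc, by rw [b_comm]; exact hff'⟩
  have hU : ∀ x ∈ P.W ⊓ R.W, x ∈ R.A M hS.nondeg := fun x hx => ⟨hx.2, (R.mem_W.1 hx.2).1, fun g hg =>
    hP.levi g (siegel_mem_El hg)
      ⟨1, by rw [one_smul]; exact siegel_fix hg hvc (P.mem_W.1 hx.1).1⟩
      ⟨1, by rw [one_smul]; exact siegel_fix hg hfc (P.mem_W.1 hx.1).2⟩⟩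
  have hsplit : ∀ y ∈ R.W, P.pW y ∈ P.W ⊓ R.W := fun y hy => by
    refine ⟨P.pW_mem y, ?_⟩
    rw [HP.pW]
    exact R.W.sub_mem (R.W.sub_mem hy (R.W.smul_mem _ hvR)) (R.W.smul_mem _ hfR)
  have hscale : ∀ a b t : F, a • P.v + b • P.f ∈ R.A M hS.nondeg →
      t • (a • P.v + b • P.f) ∈ R.A M hS.nondeg := by
    intro a b t hy
    by_cases ht : t = 0
    · rw [ht, zero_smul]; exact AddSubgroup.zero_mem _
    obtain ⟨g, hg, gv, gf, gc⟩ := hS.exists_move P hRvW (P.W.smul_mem t hRvW) R.v_ne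
      (smul_ne_zero ht R.v_ne) (by rw [q_smul, R.hv, mul_zero])
    have hgM := hP.levi g hg ⟨1, by rw [one_smul]; exact gv⟩ ⟨1, by rw [one_smul]; exact gf⟩
    have h1 := inM_conj M hS.nondeg hgM hy.2
    rw [gc, inM_smul_iff M hS.nondeg R.hv ht, ap_add, ap_smul, ap_smul, gv, gf] at h1
    exact ⟨R.W.smul_mem t hy.1, h1⟩
  have hv : P.v ∉ R.A M hS.nondeg := fun h => by
    have h1 := inM_swap M hS.nondeg R.hv P.hv h.2
    have h2 := hC.triv _ ⟨P.W.neg_mem hRvW, h1⟩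
    exact R.v_ne (neg_eq_zero.1 h2)
  have hplane : ∀ y ∈ R.A M hS.nondeg, B P.f y • P.v + B P.v y • P.f ∈ R.A M hS.nondeg := fun y hy => by
    have h := (R.A M hS.nondeg).sub_mem hy (hU _ (hsplit y hy.1))
    rwa [show y - P.pW y = B P.f y • P.v + B P.v y • P.f by rw [HP.pW]; abel] at h
  have hnotin : R.v ∉ pointOrbit P M := by
    obtain ⟨x, hx, hx0⟩ := (P.W ⊓ R.W).exists_mem_ne_zero_of_ne_bot fun e => by
      have := hS.finrank_inf hRvW hRf
      rw [e, finrank_bot] at this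
      omega
    refine hC.not_mem_orbit (hU x hx).2 fun hsp => hx0 ?_
    obtain ⟨t, rfl⟩ := Submodule.mem_span_singleton.1 hsp
    have h := (R.mem_W.1 hx.2).2
    rw [b_smul_right, R.hfv, mul_one] at h
    rw [h, zero_smul]
  refine hS.two_bound hC hnotin ?_
  by_cases hpl : ∀ y ∈ R.A M hS.nondeg, B P.v y = 0
  · -- only the plane
    have hin : ∀ y ∈ R.A M hS.nondeg, y ∈ P.W ⊓ R.W := by
      intro y hy
      have h1 := hplane y hy
      rw [hpl y hy, zero_smul, add_zero] at h1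
      by_cases ha : B P.f y = 0
      · exact ⟨P.mem_W.2 ⟨hpl y hy, ha⟩, hy.1⟩
      have h2 := hscale (B P.f y) 0 (B P.f y)⁻¹ (by rwa [zero_smul, add_zero])
      rw [zero_smul, add_zero, smul_smul, inv_mul_cancel₀ ha, one_smul] at h2
      exact absurd h2 hv
    have hd := hS.finrank_inf hRvW hRf
    have hcard : Nat.card (R.A M hS.nondeg) ≤ q ^ 2 := by
      refine le_trans ?_ (le_of_eq ((card_subspace _).trans (by rw [hd] : q ^ Module.finrank F ↥(P.W ⊓ R.W) = q ^ 2)))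
      exact Nat.card_le_card_of_injective (fun x : R.A M hS.nondeg => (⟨x.1, hin _ x.2⟩ : ↥(P.W ⊓ R.W)))
        fun a b e => Subtype.ext (congrArg (fun z : ↥(P.W ⊓ R.W) => (z : ι → F)) e)
    obtain ⟨u, hu, hu0⟩ := (P.W ⊓ R.W).exists_mem_ne_zero_of_ne_bot fun e => by
      rw [e, finrank_bot] at hd; omega
    obtain ⟨hle, -⟩ := lev_small hS.nondeg (inf_nondeg hS.nondeg hRvW hRf) hd.le
      (fun x hx => hS.aniso_inf hRvW hx) (Q u)
    rw [hd] at hle
    have hn2 : Nat.card {x : ι → F // x ∈ R.A M hS.nondeg ∧ x ≠ 0 ∧ Q x = Q u} ≤ 2 * q := by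
      refine Nat.le_of_mul_le_mul_left (le_trans ?_ (hle.trans (le_of_eq (by ring)))) (show 0 < q by omega)
      refine Nat.mul_le_mul_left _ ?_
      exact Nat.card_le_card_of_injective
        (fun x : {x : ι → F // x ∈ R.A M hS.nondeg ∧ x ≠ 0 ∧ Q x = Q u} =>
          (⟨⟨x.1, hin _ x.2.1⟩, x.2.2.2⟩ : {x : ↥(P.W ⊓ R.W) // Q (x : ι → F) = Q u}))
        fun a b e => Subtype.ext (congrArg
          (fun z : {x : ↥(P.W ⊓ R.W) // Q (x : ι → F) = Q u} => ((z.1 : ↥(P.W ⊓ R.W)) : ι → F)) e)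
    have h := (Nat.mul_le_mul_left (q ^ 4) (hS.le_card_level R (Q u))).trans
      ((hS.near_single R M (c := Q u) ⟨u, hU u hu, hu0, rfl⟩).trans
        (Nat.mul_le_mul_left _ (Nat.mul_le_mul hcard hn2)))
    obtain ⟨d, hd'⟩ : ∃ d, q = d + 4 := ⟨q - 4, by omega⟩
    rw [hd'] at h ⊢
    rw [show (d + 4) ^ 3 = (d + 4) ^ 2 * (d + 3) + (d + 4) ^ 2 by ring, Nat.add_sub_cancel,
      show (d + 4) ^ 4 * ((d + 4) ^ 2 * (d + 3)) = (d + 4) ^ 3 * ((d + 4) ^ 3 * (d + 3)) by ring,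
      show Nat.card (R.near M) * ((d + 4) ^ 2 * (2 * (d + 4))) = (d + 4) ^ 3 * (2 * Nat.card (R.near M)) by ring] at h
    have h' := Nat.le_of_mul_le_mul_left h (by positivity)
    nlinarith [Nat.zero_le (d ^ 4), Nat.zero_le (d ^ 3), Nat.zero_le (d ^ 2)]
  · -- a hyperplane
    push Not at hpl
    obtain ⟨y, hy, hyv⟩ := hpl
    obtain ⟨a, ha⟩ : ∃ a, a = B P.f y / B P.v y := ⟨_, rfl⟩
    have hy0 : a • P.v + P.f ∈ R.A M hS.nondeg := by
      have h := hscale _ _ (B P.v y)⁻¹ (hplane y hy)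
      rwa [smul_add, smul_smul, smul_smul, inv_mul_cancel₀ hyv, one_smul,
        show (B P.v y)⁻¹ * B P.f y = a by rw [ha]; ring] at h
    refine hS.near_hyperplane R M (w := P.f - a • P.v) (R.W.sub_mem hfR (R.W.smul_mem _ hvR)) (fun e => ?_)
      fun x hx => ?_
    · have := congrArg (B P.v) e
      rw [b_sub_right, b_smul_right, P.hvf, b_self_zero P.hv, b_zero_right] at this
      exact one_ne_zero (α := F) (by linear_combination this)
    have hwx : B (P.f - a • P.v) x = B P.f x - a * B P.v x := by rw [b_sub_left, b_smul_left]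
    rw [hwx]
    have hb : B P.v x • (a • P.v + P.f) ∈ R.A M hS.nondeg := by
      have h := hscale a 1 (B P.v x) (by rwa [one_smul])
      rwa [one_smul] at h
    constructor
    · intro hxA
      by_contra hne
      have h := (R.A M hS.nondeg).sub_mem (hplane x hxA) hb
      rw [show B P.f x • P.v + B P.v x • P.f - B P.v x • (a • P.v + P.f) =
        (B P.f x - a * B P.v x) • P.v + (0 : F) • P.f by module] at h
      have h2 := hscale _ _ (B P.f x - a * B P.v x)⁻¹ h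
      rw [zero_smul, add_zero, smul_smul, inv_mul_cancel₀ hne, one_smul] at h2
      exact hv h2
    · intro h0
      have h := (R.A M hS.nondeg).add_mem (hU _ (hsplit x hx)) hb
      rwa [show P.pW x + B P.v x • (a • P.v + P.f) = x by
        rw [HP.pW, show B P.f x = a * B P.v x by linear_combination h0]; module] at h

end CfsgLib.MinIndexOrth
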