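import Cfsg.Agent.Lib.MinIndexOrth.Exact
import Cfsg.Agent.Lib.MinIndexOrth.Moves
import Cfsg.Agent.Lib.MinIndexOrth.Pairs
import Cfsg.Agent.Lib.MinIndexOrth.Halves

/-!
The complement of a point in six dimensions, of minus type: counts and moves.
-/

set_option autoImplicit false
set_option linter.unusedSectionVars false

namespace CfsgLib.MinIndexOrth

open CfsgLib.Orth

variable {F : Type*} [Field F] [Finite F] {ι : Type} [Fintype ι] [DecidableEq ι]
variable {Q : QuadraticForm F (ι → F)}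

local notation "B" => QuadraticMap.polar (DFunLike.coe Q)
local notation "q" => Nat.card F

/-- A space of six dimensions of minus type. -/
structure MinusSix (Q : QuadraticForm F (ι → F)) : Prop where
  nondeg : Nondeg Q
  dim : Module.finrank F (ι → F) = 4 + 2
  no_half : ∀ P : HP Q, ¬ HasHalf Q P.W 2
  points : Nat.card {y : ι → F // y ≠ 0 ∧ Q y = 0} =
    (Nat.card F + 1) * (Nat.card F ^ 3 + 1) * (Nat.card F - 1)

variable (hS : MinusSix Q) (P : HP Q)
include hS

theorem MinusSix.finrank_W : Module.finrank F P.W = 4 := by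
  have := P.finrank_W hS.nondeg
  have := hS.dim
  omega

theorem MinusSix.card_W : Nat.card P.W = q ^ 4 := P.card_W hS.nondeg hS.dim

/-- Orthogonal singular vectors of the complement are dependent. -/
theorem MinusSix.mem_line {x y : ι → F} (hx : x ∈ P.W) (hy : y ∈ P.W) (hx0 : x ≠ 0) (hxq : Q x = 0)
    (hyq : Q y = 0) (h : B x y = 0) : y ∈ Submodule.span F {x} := by
  by_contra hne
  refine hS.no_half P ⟨Submodule.span F (Set.range ![x, y]), Submodule.span_le.2 ?_, fun w hw => ?_, ?_⟩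
  · rintro _ ⟨i, rfl⟩
    fin_cases i
    exacts [hx, hy]
  · obtain ⟨c, rfl⟩ := Submodule.mem_span_range_iff_exists_fun F |>.1 hw
    simp only [Fin.sum_univ_two, Matrix.cons_val_zero, Matrix.cons_val_one, q_add, q_smul,
      b_smul_left, b_smul_right, hxq, hyq, h, mul_zero, add_zero]
  · rw [finrank_span_eq_card (pair_indep hx0 hne), Fintype.card_fin]

/-- Singular vectors of the complement. -/
theorem MinusSix.card_singular :
    Nat.card {x : ι → F // x ∈ P.W ∧ x ≠ 0 ∧ Q x = 0} = (q ^ 2 + 1) * (q - 1) := by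
  classical
  have hq := two_le_card (F := F)
  have h := ((lev_zero_even hS.nondeg 2 P.W (P.nondeg hS.nondeg) (hS.finrank_W P)).resolve_left
    fun h => hS.no_half P h.1).2
  have h1 := card_ne_zero (Q := Q) P.W 0
  have h2 : Nat.card {x : ι → F // x ∈ P.W ∧ x ≠ 0 ∧ Q x = 0} + 1 ≤ lev Q P.W 0 := by
    rw [← Finite.card_option]
    refine Nat.card_le_card_of_injective (fun o : Option {x : ι → F // x ∈ P.W ∧ x ≠ 0 ∧ Q x = 0} =>
      (o.elim ⟨0, QuadraticMap.map_zero Q⟩ fun x => ⟨⟨x.1, x.2.1⟩, x.2.2.2⟩ :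
        {x : P.W // Q (x : ι → F) = 0})) fun a b e => ?_
    have e' := congrArg (fun x : {x : P.W // Q (x : ι → F) = 0} => ((x : P.W) : ι → F)) e
    rcases a with _ | a <;> rcases b with _ | b <;> simp only [Option.elim] at e'
    · rfl
    · exact absurd e'.symm b.2.2.1
    · exact absurd e' a.2.2.1
    · exact congrArg some (Subtype.ext e')
  rw [le_antisymm h1 h2] at h
  obtain ⟨d, hd⟩ : ∃ d, q = d + 1 := ⟨q - 1, by omega⟩
  rw [hd] at h ⊢
  rw [Nat.add_sub_cancel]
  refine Nat.eq_of_mul_eq_mul_left (show 0 < d + 1 by omega) ?_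
  zify
  have h' : ((d : ℤ) + 1) * ((Nat.card {x : ι → F // x ∈ P.W ∧ x ≠ 0 ∧ Q x = 0} : ℤ) + 1) +
      ((d : ℤ) + 1) ^ (2 + 1) = ((d : ℤ) + 1) ^ (2 * 2) + ((d : ℤ) + 1) ^ 2 := by exact_mod_cast h
  linear_combination h'

theorem MinusSix.exists_singular_W : ∃ x ∈ P.W, x ≠ 0 ∧ Q x = 0 :=
  exists_singular (by rw [hS.finrank_W P]; norm_num)

/-- Each level set of the complement. -/
theorem MinusSix.le_card_level (c : F) :
    q ^ 3 - q ^ 2 ≤ Nat.card {x : ι → F // x ∈ P.W ∧ x ≠ 0 ∧ Q x = c} := by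
  have hq := two_le_card (F := F)
  by_cases hc : c = 0
  · rw [hc, hS.card_singular P]
    obtain ⟨d, hd⟩ : ∃ d, q = d + 1 := ⟨q - 1, by omega⟩
    rw [hd, Nat.add_sub_cancel, show (d + 1) ^ 3 = (d + 1) ^ 2 * d + (d + 1) ^ 2 by ring,
      Nat.add_sub_cancel]
    exact Nat.mul_le_mul_right _ (Nat.le_succ _)
  · obtain ⟨h, -, -⟩ := lev_bound hS.nondeg 4 P.W (P.nondeg hS.nondeg) (hS.finrank_W P) c
    refine (div_bound (by omega) h).trans ?_
    refine Nat.card_le_card_of_injective (fun x : {x : P.W // Q (x : ι → F) = c} =>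
      (⟨((x : P.W) : ι → F), x.1.2, fun e => hc (by rw [← x.2, e, QuadraticMap.map_zero]), x.2⟩ :
        {x : ι → F // x ∈ P.W ∧ x ≠ 0 ∧ Q x = c})) fun a b e => ?_
    exact Subtype.ext (Subtype.ext (congrArg (fun z : {x : ι → F // x ∈ P.W ∧ x ≠ 0 ∧ Q x = c} => (z : ι → F)) e))

/-- Moving a vector of the complement. -/
theorem MinusSix.exists_move {x y : ι → F} (hx : x ∈ P.W) (hy : y ∈ P.W) (hx0 : x ≠ 0) (hy0 : y ≠ 0)
    (h : Q x = Q y) : ∃ g ∈ El Q, ap g P.v = P.v ∧ ap g P.f = P.f ∧ ap g x = y := by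
  obtain ⟨g, hg, h1, h2, h3⟩ := P.exists_move_three hS.nondeg hS.dim (by norm_num) (x := ![x]) (y := ![y])
    (by intro i; fin_cases i; exact hx) (by intro i; fin_cases i; exact hy)
    (LinearIndependent.of_subsingleton 0 hx0) (LinearIndependent.of_subsingleton 0 hy0)
    (fun c => by simp [q_smul, h]) (by
      have h1 := Submodule.finrank_mono (inf_le_left : Submodule.span F (Set.range ![x]) ⊓
        orth Q (Submodule.span F (Set.range ![x])) ≤ _)
      have h2 := finrank_span_le (F := F) ![x]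
      omega)
  exact ⟨g, hg, h1, h2, h3 0⟩

omit hS in
theorem pair_not_mem {a b : ι → F} (ha : Q a = 0) (hab : B a b = 1) : b ∉ Submodule.span F {a} := by
  intro h
  obtain ⟨t, rfl⟩ := Submodule.mem_span_singleton.1 h
  rw [b_smul_right, b_self_zero ha, mul_zero] at hab
  exact zero_ne_one hab

/-- Moving a hyperbolic pair of the complement. -/
theorem MinusSix.exists_move_pair {a b a' b' : ι → F} (ha : a ∈ P.W) (hb : b ∈ P.W) (ha' : a' ∈ P.W)
    (hb' : b' ∈ P.W) (haq : Q a = 0) (hbq : Q b = 0) (hab : B a b = 1)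
    (haq' : Q a' = 0) (hbq' : Q b' = 0) (hab' : B a' b' = 1) :
    ∃ g ∈ El Q, ap g P.v = P.v ∧ ap g P.f = P.f ∧ ap g a = a' ∧ ap g b = b' := by
  have hne : ∀ {a b : ι → F}, B a b = 1 → a ≠ 0 := fun h e => zero_ne_one (α := F) (by
    rw [← h, e, b_zero_left])
  obtain ⟨g, hg, g1, g2, g3⟩ := P.exists_move_three hS.nondeg hS.dim (by norm_num)
    (x := ![a, b]) (y := ![a', b'])
    (by intro i; fin_cases i; exacts [ha, hb]) (by intro i; fin_cases i; exacts [ha', hb'])
    (pair_indep (hne hab) (pair_not_mem haq hab)) (pair_indep (hne hab') (pair_not_mem haq' hab'))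
    (pair_q (haq.trans haq'.symm) (hbq.trans hbq'.symm) (hab.trans hab'.symm)) (by
      have : Submodule.span F (Set.range ![a, b]) ⊓ orth Q (Submodule.span F (Set.range ![a, b])) = ⊥ :=
        (Submodule.eq_bot_iff _).2 fun w ⟨hw, hwo⟩ => by
          obtain ⟨c, rfl⟩ := Submodule.mem_span_range_iff_exists_fun F |>.1 hw
          have e1 := hwo a (Submodule.subset_span ⟨0, rfl⟩)
          have e2 := hwo b (Submodule.subset_span ⟨1, rfl⟩)
          change B a _ = 0 at e1
          change B b _ = 0 at e2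
          simp only [Fin.sum_univ_two, Matrix.cons_val_zero, Matrix.cons_val_one, b_add_right,
            b_smul_right, b_self_zero haq, b_self_zero hbq, hab, b_comm b a, mul_zero, mul_one,
            zero_add, add_zero] at e1 e2
          simp [Fin.sum_univ_two, e1, e2]
      rw [this, finrank_bot])
  exact ⟨g, hg, g1, g2, g3 0, g3 1⟩

/-- The vectors completing a singular one to a hyperbolic pair. -/
theorem MinusSix.le_card_second {a : ι → F} (ha : a ∈ P.W) (ha0 : a ≠ 0) (haq : Q a = 0) :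
    q ^ 2 ≤ Nat.card {b : ι → F // b ∈ P.W ∧ Q b = 0 ∧ B a b = 1} := by
  classical
  obtain ⟨R, hRv, hRf⟩ := P.exists_at hS.nondeg ha haq ha0
  have hd : 2 ≤ Module.finrank F ↥(P.W ⊓ R.W) := by
    have h1 := Submodule.finrank_sup_add_finrank_inf_eq P.W R.W
    have h2 := Submodule.finrank_le (P.W ⊔ R.W)
    have h3 := hS.finrank_W P
    have h4 := hS.finrank_W R
    have h5 := hS.dim
    omega
  refine (Nat.pow_le_pow_right (by have := two_le_card (F := F); omega) hd).trans ?_
  rw [← card_subspace]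
  refine Nat.card_le_card_of_injective (fun u : ↥(P.W ⊓ R.W) =>
    ⟨R.f + (u : ι → F) - Q (u : ι → F) • a, P.W.sub_mem (P.W.add_mem hRf u.2.1) (P.W.smul_mem _ ha), ?_, ?_⟩)
    fun u u' e => ?_
  · obtain ⟨h1, h2⟩ := R.mem_W.1 u.2.2
    rw [← hRv, q_sub, q_add, q_smul, R.hf, R.hv, b_add_left, b_smul_right, b_smul_right, R.hfv,
      h2, b_comm (u : ι → F) R.v, h1]
    ring
  · rw [← hRv, b_sub_right, b_add_right, b_smul_right, R.hvf, (R.mem_W.1 u.2.2).1, b_self_zero R.hv]
    ring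
  · have e' : R.f + (u : ι → F) - Q (u : ι → F) • a = R.f + (u' : ι → F) - Q (u' : ι → F) • a :=
      congrArg (fun z : {b : ι → F // b ∈ P.W ∧ Q b = 0 ∧ B a b = 1} => (z : ι → F)) e
    have h := congrArg R.pW e'
    rw [← hRv, R.pW_sub, R.pW_sub, R.pW_add, R.pW_add, R.pW_smul, R.pW_smul, R.pW_v, smul_zero,
      smul_zero, sub_zero, sub_zero, R.pW_of_mem u.2.2, R.pW_of_mem u'.2.2] at h
    exact Subtype.ext (add_left_cancel h)

end CfsgLib.MinIndexOrth
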