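import Cfsg.Agent.Lib.MinIndexOrth.Four.Perms
import Cfsg.Agent.Lib.MinIndexOrth.Local

/-!
Some neighbour of a point with parameters has all its perpendicular parameters on one line.
-/

set_option autoImplicit false
set_option linter.unusedSectionVars false

namespace CfsgLib.MinIndexOrth

open CfsgLib.Orth

variable {F : Type*} [Field F] [Finite F] {ι : Type} [Fintype ι] [DecidableEq ι]
variable {Q : QuadraticForm F (ι → F)}

local notation "B" => QuadraticMap.polar (DFunLike.coe Q)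
local notation "q" => Nat.card F

variable (hS : MinusSix Q) {P : HP Q} {M : Subgroup (Grp Q)}
include hS

/-- A radical element at a neighbour fixes no other singular point. -/
theorem MinusSix.fix_one_point {z y : ι → F} {g : Grp Q} (hzW : z ∈ P.W) (hzq : Q z = 0) (hz0 : z ≠ 0)
    (hg : IsSiegel z y g) (hvy : B P.v y = 0) (hyn : P.pW y ∉ Submodule.span F {z}) {w : ι → F}
    (hwW : w ∈ P.W) (hwq : Q w = 0) (hfix : P.lin g w = w) : w ∈ Submodule.span F {z} := by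
  by_contra hne
  have hwz : B w z ≠ 0 := fun e => hne (hS.mem_line P hzW hwW hz0 hzq hwq (by rw [b_comm]; exact e))
  rw [P.lin_neighbour hzW hg hwW] at hfix
  refine hyn ((Submodule.smul_mem_iff _ hwz).1 ?_)
  rw [show B w z • P.pW y = (B w y + Q y * B w z) • z by linear_combination (norm := module) hfix]
  exact Submodule.smul_mem _ _ (Submodule.mem_span_singleton_self z)

/-- At some neighbour the parameters perpendicular to the point lie on its line. -/
theorem MinusSix.exists_thin (hne : ∃ x ∈ P.A M hS.nondeg, x ≠ 0)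
    (hP : ∃ x ∈ P.W, x ∉ P.A M hS.nondeg) :
    ∃ R : HP Q, R.v ∈ P.W ∧ R.f ∈ P.W ∧
      ∀ y ∈ R.A M hS.nondeg, B P.v y = 0 → y ∈ Submodule.span F {P.v} := by
  classical
  cases nonempty_fintype F
  by_contra hcon
  push Not at hcon
  have hq2 := two_le_card (F := F)
  obtain ⟨p, e, hp, he, hq, hp0⟩ := exists_char (F := F)
  haveI : Fact p.Prime := ⟨hp⟩
  let Ω : Set P.W := {w | (w : ι → F) ≠ 0 ∧ Q (w : ι → F) = 0}
  have hcardΩ : Nat.card Ω = (q ^ 2 + 1) * (q - 1) := by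
    rw [← hS.card_singular P]
    exact Nat.card_congr ⟨fun w => ⟨w.1.1, w.1.2, w.2.1, w.2.2⟩, fun x => ⟨⟨x.1, x.2.1⟩, x.2.2.1, x.2.2.2⟩,
      fun _ => rfl, fun _ => rfl⟩
  let H : Subgroup (Grp Q) :=
    { carrier := {g | g ∈ M ∧ ap g P.v = P.v}
      one_mem' := ⟨one_mem M, ap_one _⟩
      mul_mem' := fun ha hb => ⟨mul_mem ha.1 hb.1, by rw [ap_mul, hb.2, ha.2]⟩
      inv_mem' := fun ha => ⟨inv_mem ha.1, P.fix_inv ha.2⟩ }
  let ψ : H × Fˣ →* Equiv.Perm P.W :=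
    { toFun := fun a =>
        { toFun := fun w => ⟨(a.2 : F) • P.lin (a.1 : Grp Q) (w : ι → F), P.W.smul_mem _ (P.lin_mem _ _)⟩
          invFun := fun w => ⟨((a.2⁻¹ : Fˣ) : F) • P.lin (a.1 : Grp Q)⁻¹ (w : ι → F),
            P.W.smul_mem _ (P.lin_mem _ _)⟩
          left_inv := fun w => Subtype.ext (by
            dsimp only
            rw [P.lin_smul, P.lin_inv a.1.2.2 w.2, smul_smul, Units.inv_mul, one_smul])
          right_inv := fun w => Subtype.ext (by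
            dsimp only
            rw [P.lin_smul, P.lin_inv' a.1.2.2 w.2, smul_smul, Units.mul_inv, one_smul]) }
      map_one' := Equiv.ext fun w => Subtype.ext (by
        show ((1 : Fˣ) : F) • P.lin (1 : Grp Q) (w : ι → F) = w
        rw [Units.val_one, one_smul, P.lin_one w.2])
      map_mul' := fun a b => Equiv.ext fun w => Subtype.ext (by
        show ((a.2 * b.2 : Fˣ) : F) • P.lin ((a.1 : Grp Q) * b.1) (w : ι → F) =
          (a.2 : F) • P.lin (a.1 : Grp Q) ((b.2 : F) • P.lin (b.1 : Grp Q) (w : ι → F))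
        rw [P.lin_smul, smul_smul, P.lin_mul a.1.2.2 b.1.2.2 w.2, Units.val_mul]) }
  have hψ : ∀ (a : H × Fˣ) (w : P.W),
      ((ψ a w : P.W) : ι → F) = (a.2 : F) • P.lin (a.1 : Grp Q) (w : ι → F) := fun _ _ => rfl
  have hΩ : ∀ a, ∀ w ∈ Ω, ψ a w ∈ Ω := by
    intro a w hw
    refine ⟨?_, ?_⟩
    · rw [hψ]
      refine smul_ne_zero a.2.ne_zero fun e0 => hw.1 ?_
      rw [← P.lin_inv a.1.2.2 w.2, e0, P.lin_zero]
    · rw [hψ, q_smul, P.lin_q a.1.2.2 w.2, hw.2, mul_zero]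
  -- a point orbit, closed under scalars, is everything
  obtain ⟨z₀, hz₀W, hz₀0, hz₀q⟩ := hS.exists_singular_W P
  let S : Set P.W := MulAction.orbit ψ.range (⟨z₀, hz₀W⟩ : P.W)
  have hmemS : ∀ w : P.W, w ∈ S ↔ ∃ a, ψ a ⟨z₀, hz₀W⟩ = w := by
    intro w
    constructor
    · rintro ⟨⟨σ, a, rfl⟩, rfl⟩
      exact ⟨a, rfl⟩
    · rintro ⟨a, rfl⟩
      exact ⟨⟨ψ a, a, rfl⟩, rfl⟩
  have hSψ : ∀ a, ∀ w ∈ S, ψ a w ∈ S := by
    intro a w hw
    obtain ⟨b, rfl⟩ := (hmemS w).1 hw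
    exact (hmemS _).2 ⟨a * b, by rw [map_mul]; rfl⟩
  have hSΩ : ∀ w ∈ S, w ∈ Ω := by
    intro w hw
    obtain ⟨b, rfl⟩ := (hmemS w).1 hw
    exact hΩ b _ ⟨hz₀0, hz₀q⟩
  -- each point has an element of order the characteristic fixing only it
  have hloc : ∀ z ∈ Ω, Nat.card S ≡ Nat.card {w : S // ((w : P.W) : ι → F) ∈
      Submodule.span F {(z : ι → F)}} [MOD p] := by
    intro z hz
    obtain ⟨R, hRv, hRf⟩ := P.exists_at hS.nondeg z.2 hz.2 hz.1
    obtain ⟨y, hy, hvy, hyn⟩ := hcon R (hRv ▸ z.2) hRf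
    obtain ⟨g, hg⟩ := exists_siegel hS.nondeg R.hv hy.2.1
    have hgH : g ∈ H := ⟨hy.2.2 g hg, P.neighbour_fix (hRv ▸ z.2) hg hvy⟩
    rw [hRv] at hg
    have hyn' : P.pW y ∉ Submodule.span F {(z : ι → F)} := by
      intro hmem
      obtain ⟨c, hc⟩ := Submodule.mem_span_singleton.1 hmem
      have hey := P.eq_pW hvy
      rw [← hc] at hey
      have h1 : B R.f y = 0 := (R.mem_W.1 hy.1).2
      have h2 : B R.f P.v = 0 := by rw [b_comm]; exact (P.mem_W.1 hRf).1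
      rw [hey, b_add_right, b_smul_right, b_smul_right, h2, ← hRv, R.hfv, mul_zero, add_zero, mul_one] at h1
      rw [h1, zero_smul, zero_add] at hey
      exact hyn (Submodule.mem_span_singleton.2 ⟨_, hey.symm⟩)
    have hap : ∀ w : P.W, ((ψ (⟨g, hgH⟩, 1) w : P.W) : ι → F) = P.lin g (w : ι → F) := fun w => by
      rw [hψ, Units.val_one, one_smul]
    have h1 := modEq_fixed (ψ (⟨g, hgH⟩, 1)) S (hSψ _) hp fun w _ => by
      rw [← Equiv.Perm.coe_pow, ← map_pow]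
      refine Subtype.ext ?_
      rw [hψ]
      have hgp : g ^ p = 1 := by
        have h2 := siegel_pow _ _ hg p
        rw [hp0, zero_smul] at h2
        exact siegel_unique h2 (siegel_one hz.2)
      simp [hgp, P.lin_one w.2]
    refine h1.trans (congrArg (· % p) (Nat.card_congr (Equiv.subtypeEquivRight fun w => ⟨fun hfix => ?_, fun hmem => ?_⟩)))
    · have h2 := congrArg Subtype.val hfix
      rw [hap] at h2
      exact hS.fix_one_point z.2 hz.2 hz.1 hg hvy hyn' w.1.2 (hSΩ _ w.2).2 h2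
    · refine Subtype.ext ?_
      rw [hap]
      obtain ⟨c, hc⟩ := Submodule.mem_span_singleton.1 hmem
      rw [← hc, P.lin_smul, P.lin_neighbour z.2 hg z.2, b_self_zero hz.2, hg.2.1]
      module
  have hall : ∀ w ∈ Ω, w ∈ S := by
    by_contra hc
    push Not at hc
    obtain ⟨w', hw', hw'S⟩ := hc
    have h1 := hloc ⟨z₀, hz₀W⟩ ⟨hz₀0, hz₀q⟩
    have h2 := hloc w' hw'
    have hscal : ∀ (t : Fˣ) (w : P.W), w ∈ S → (⟨(t : F) • (w : ι → F), P.W.smul_mem _ w.2⟩ : P.W) ∈ S := by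
      intro t w hw
      have h3 := hSψ (1, t) w hw
      convert h3 using 1
      exact Subtype.ext (by rw [hψ]; simp [P.lin_one w.2])
    have h0 : Nat.card {w : S // ((w : P.W) : ι → F) ∈ Submodule.span F {(w' : ι → F)}} = 0 := by
      refine Nat.card_eq_zero.2 (Or.inl ⟨fun w => hw'S ?_⟩)
      obtain ⟨c, hc⟩ := Submodule.mem_span_singleton.1 w.2
      have hc0 : c ≠ 0 := fun e0 => (hSΩ _ w.1.2).1 (by rw [← hc, e0, zero_smul])
      convert hscal (Units.mk0 c hc0)⁻¹ _ w.1.2 using 1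
      refine Subtype.ext ?_
      show (w' : ι → F) = ((Units.mk0 c hc0)⁻¹ : Fˣ).val • ((w.1 : P.W) : ι → F)
      rw [← hc, smul_smul, Units.val_inv_eq_inv_val, Units.val_mk0, inv_mul_cancel₀ hc0, one_smul]
    have h4 : Nat.card {w : S // ((w : P.W) : ι → F) ∈ Submodule.span F {z₀}} = q - 1 := by
      rw [← show Nat.card Fˣ = q - 1 from Nat.card_units F]
      refine (Nat.card_eq_of_bijective (fun t : Fˣ => (⟨⟨⟨(t : F) • z₀, P.W.smul_mem _ hz₀W⟩,
        hscal t ⟨z₀, hz₀W⟩ (MulAction.mem_orbit_self _)⟩, Submodule.smul_mem _ _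
          (Submodule.mem_span_singleton_self z₀)⟩ :
          {w : S // ((w : P.W) : ι → F) ∈ Submodule.span F {z₀}})) ⟨fun s t hst => ?_, fun w => ?_⟩).symm
      · exact Units.ext (smul_left_injective F hz₀0 (congrArg (fun w : {w : S // ((w : P.W) : ι → F) ∈
          Submodule.span F {z₀}} => ((w.1.1 : P.W) : ι → F)) hst))
      · obtain ⟨c, hc⟩ := Submodule.mem_span_singleton.1 w.2
        exact ⟨Units.mk0 c fun e0 => (hSΩ _ w.1.2).1 (by rw [← hc, e0, zero_smul]),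
          Subtype.ext (Subtype.ext (Subtype.ext hc))⟩
    rw [h0] at h2
    rw [show ((⟨z₀, hz₀W⟩ : P.W) : ι → F) = z₀ from rfl, h4] at h1
    have h5 : p ∣ q - 1 := Nat.modEq_zero_iff_dvd.1 (h1.symm.trans h2)
    have h6 : p ∣ q := hq ▸ dvd_pow_self p he.ne'
    have h7 := Nat.dvd_sub h6 h5
    rw [show q - (q - 1) = 1 by omega] at h7
    exact hp.not_dvd_one h7
  -- an element of a primitive prime order
  obtain ⟨r, hr, hr1, hrk⟩ := CfsgLib.NumberTheory.exists_primitive_prime hp.one_lt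
    (show 1 < e * 4 by omega) (fun h => by omega) (fun h => by omega)
  have hq4 : p ^ (e * 4) = q ^ 4 := by rw [hq, ← pow_mul]
  have hrp : r ≠ p := by
    rintro rfl
    have h6 : r ∣ r ^ (e * 4) := dvd_pow_self r (by omega)
    have h7 := Nat.dvd_sub h6 hr1
    rw [Nat.sub_sub_self (Nat.one_le_pow _ _ hp.pos)] at h7
    exact hp.not_dvd_one h7
  have hrq : ¬ r ∣ q - 1 := hq ▸ hrk e he (by omega)
  have hrΩ : r ∣ Nat.card Ω := by
    rw [hcardΩ]
    rw [hq4, show q ^ 4 - 1 = (q ^ 2 + 1) * (q ^ 2 - 1) by rw [← Nat.sq_sub_sq]; ring_nf] at hr1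
    refine Dvd.dvd.mul_right ((hr.dvd_mul.1 hr1).resolve_right ?_) _
    rw [hq, ← pow_mul]
    exact hrk _ (by omega) (by omega)
  have hSeq : Nat.card Ω = Nat.card S :=
    Nat.card_congr (Equiv.subtypeEquivRight fun w => ⟨hall w, hSΩ w⟩)
  have hrJ : r ∣ Nat.card ψ.range := by
    refine (hSeq ▸ hrΩ).trans ?_
    rw [← (Nat.card_congr (MulAction.orbitEquivQuotientStabilizer ψ.range (⟨z₀, hz₀W⟩ : P.W))).symm]
    exact Subgroup.card_quotient_dvd_card _
  haveI : Fact r.Prime := ⟨hr⟩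
  obtain ⟨⟨σ, a, rfl⟩, hσ⟩ := exists_prime_orderOf_dvd_card' (G := ψ.range) r hrJ
  have hσ' : orderOf (ψ a) = r := (Subgroup.orderOf_coe (⟨ψ a, a, rfl⟩ : ψ.range)).trans hσ
  obtain ⟨⟨g, hgH⟩, t⟩ := a
  have hne1 : ψ (⟨g, hgH⟩, t) ^ (q - 1) ≠ 1 := fun e1 => hrq (hσ' ▸ orderOf_dvd_of_pow_eq_one e1)
  have ht : t ^ (q - 1) = 1 := by
    have h3 := pow_card_eq_one' (G := Fˣ) (x := t)
    rwa [Nat.card_units] at h3
  obtain ⟨g', hg'⟩ : ∃ g', g' = g ^ (q - 1) := ⟨_, rfl⟩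
  have hg'H : g' ∈ H := hg' ▸ pow_mem hgH _
  have hg'ψ : ψ (⟨g, hgH⟩, t) ^ (q - 1) = ψ (⟨g', hg'H⟩, 1) := by
    rw [← map_pow, Prod.pow_mk, ht]
    congr 2
    exact Subtype.ext hg'.symm
  have hg'r : ∀ x ∈ P.W, P.lin (g' ^ r) x = x := by
    intro x hx
    have h3 : ψ (⟨g', hg'H⟩, 1) ^ r = 1 := by
      rw [← hg'ψ, ← pow_mul, mul_comm, pow_mul, ← hσ', pow_orderOf_eq_one, one_pow]
    rw [← map_pow, Prod.pow_mk, one_pow] at h3
    have h4 := congrArg (fun σ : Equiv.Perm P.W => ((σ ⟨x, hx⟩ : P.W) : ι → F)) h3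
    simp only [hψ, Units.val_one, one_smul, Equiv.Perm.one_apply] at h4
    exact h4
  obtain ⟨x₁, hx₁, hx₁A⟩ := hP
  have hfixA := P.lin_fix_all hg'H.2 hp hq (m := e * 4) (by rw [hS.card_W, hq4]) hr hrp hrk hg'r
    (P.A M hS.nondeg) (fun x hx => hx.1) (fun x hx => P.lin_mem_A M hS.nondeg hg'H.1 hg'H.2 hx)
    (Or.inl (by
      rw [hq4, ← hS.card_W P]
      refine lt_of_le_of_ne (Nat.card_le_card_of_injective (fun x : P.A M hS.nondeg => (⟨x.1, x.2.1⟩ : P.W))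
        fun a b h => Subtype.ext (congrArg (fun z : P.W => (z : ι → F)) h)) fun hEq => hx₁A ?_
      have hb : Function.Bijective fun x : P.A M hS.nondeg => (⟨x.1, x.2.1⟩ : P.W) :=
        (Nat.bijective_iff_injective_and_card _).2
          ⟨fun a b h => Subtype.ext (congrArg (fun z : P.W => (z : ι → F)) h), hEq⟩
      obtain ⟨y, hy⟩ := hb.2 ⟨x₁, hx₁⟩
      rw [← show (y : ι → F) = x₁ from congrArg Subtype.val hy]
      exact y.2))
  obtain ⟨x₀, hx₀, hx₀0⟩ := hne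
  have hfixW := P.lin_fix_all hg'H.2 hp hq (m := e * 4) (by rw [hS.card_W, hq4]) hr hrp hrk hg'r
    P.W.toAddSubgroup (fun x hx => hx) (fun x _ => P.lin_mem g' x)
    (Or.inr ⟨x₀, hx₀.1, hx₀0, hfixA x₀ hx₀⟩)
  refine hne1 (hg'ψ.trans (Equiv.ext fun w => Subtype.ext ?_))
  rw [hψ, Units.val_one, one_smul]
  exact hfixW _ w.2

end CfsgLib.MinIndexOrth
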