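import Cfsg.Agent.Lib.MinIndexOrth.Four.Near
import Cfsg.Agent.Lib.MinIndexOrth.Four.Trans
import Cfsg.Agent.Lib.Classical.OrthPoint
import Cfsg.Agent.Lib.Classical.OrthStab

/-!
A proper subgroup of large order meets some point stabiliser in a complement of the radical.
-/

set_option autoImplicit false
set_option linter.unusedSectionVars false

namespace CfsgLib.MinIndexOrth

open CfsgLib.Orth

variable {F : Type*} [Field F] [Finite F] {ι : Type} [Fintype ι] [DecidableEq ι]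
variable {Q : QuadraticForm F (ι → F)}

local notation "B" => QuadraticMap.polar (DFunLike.coe Q)
local notation "q" => Nat.card F

theorem pow_five_ge {s : ℕ} (hs : 2 ≤ s) : (s + 1) * (s ^ 3 + 1) ≤ s ^ 5 := by
  have h1 := Nat.mul_le_mul_right (s ^ 4) hs
  have h2 := Nat.mul_le_mul hs (Nat.mul_le_mul hs hs)
  have h3 := Nat.mul_le_mul_right (s ^ 3) hs
  nlinarith

theorem few_arith {s α n a b X : ℕ} (hs : 2 ≤ s) (h : s ^ 4 * ((s ^ 2 + 1) * (s - 1)) ≤ X * (α * n))
    (hα : α ≤ a * s) (hn : n + 2 ≤ a + b) (hb : b ≤ s) (ha : 2 * a ≤ s) :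
    (s + 1) * (s ^ 3 + 1) ≤ X := by
  obtain ⟨d, rfl⟩ : ∃ d, s = d + 2 := ⟨s - 2, by omega⟩
  rw [show d + 2 - 1 = d + 1 by omega] at h
  have h4 : 4 * (α * n) ≤ (d + 2) ^ 2 * (3 * d + 2) := by
    have h5 : 2 * α ≤ (d + 2) * (d + 2) :=
      le_trans ((Nat.mul_le_mul_left 2 hα).trans_eq (mul_assoc _ _ _).symm) (Nat.mul_le_mul_right _ ha)
    have h6 : 2 * n ≤ 3 * d + 2 := by omega
    calc 4 * (α * n) = 2 * α * (2 * n) := by ring
      _ ≤ _ := (Nat.mul_le_mul h5 h6).trans_eq (by ring)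
  have h7 : (d + 2) ^ 2 * (4 * ((d + 2) ^ 2 * (((d + 2) ^ 2 + 1) * (d + 1)))) ≤
      (d + 2) ^ 2 * (X * (3 * d + 2)) := by
    calc _ = 4 * ((d + 2) ^ 4 * (((d + 2) ^ 2 + 1) * (d + 1))) := by ring
      _ ≤ 4 * (X * (α * n)) := Nat.mul_le_mul_left _ h
      _ = X * (4 * (α * n)) := by ring
      _ ≤ X * ((d + 2) ^ 2 * (3 * d + 2)) := Nat.mul_le_mul_left _ h4
      _ = _ := by ring
  have h8 := Nat.le_of_mul_le_mul_left h7 (by positivity)
  refine Nat.le_of_mul_le_mul_right (le_trans ?_ h8) (show 0 < 3 * d + 2 by omega)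
  ring_nf
  nlinarith [Nat.zero_le (d ^ 5), Nat.zero_le (d ^ 4), Nat.zero_le (d ^ 3), Nat.zero_le (d ^ 2)]

theorem pair_arith {s α n X : ℕ} (hs : 2 ≤ s)
    (h : s ^ 4 * ((s ^ 2 + 1) * (s - 1) * s ^ 2) ≤ X * (α * (n * (n - 1))))
    (hα : α ≤ s ^ 2) (hn : n + 2 ≤ 2 * s) : (s + 1) * (s ^ 3 + 1) ≤ X := by
  obtain ⟨d, rfl⟩ : ∃ d, s = d + 2 := ⟨s - 2, by omega⟩
  rw [show d + 2 - 1 = d + 1 by omega] at h
  have h4 : n * (n - 1) ≤ (d + 1) * (2 * (2 * d + 1)) := by
    have h5 : n * (n - 1) ≤ (2 * d + 2) * (2 * d + 1) := Nat.mul_le_mul (by omega) (by omega)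
    exact h5.trans_eq (by ring)
  have h7 : (d + 1) * (d + 2) ^ 2 * ((d + 2) ^ 4 * ((d + 2) ^ 2 + 1)) ≤
      (d + 1) * (d + 2) ^ 2 * (X * (2 * (2 * d + 1))) := by
    calc _ = (d + 2) ^ 4 * (((d + 2) ^ 2 + 1) * (d + 1) * (d + 2) ^ 2) := by ring
      _ ≤ X * (α * (n * (n - 1))) := h
      _ ≤ X * ((d + 2) ^ 2 * ((d + 1) * (2 * (2 * d + 1)))) :=
          Nat.mul_le_mul_left _ (Nat.mul_le_mul hα h4)
      _ = _ := by ring
  have h8 := Nat.le_of_mul_le_mul_left h7 (by positivity)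
  refine Nat.le_of_mul_le_mul_right (le_trans ?_ h8) (show 0 < 2 * (2 * d + 1) by omega)
  ring_nf
  nlinarith [Nat.zero_le (d ^ 6), Nat.zero_le (d ^ 5), Nat.zero_le (d ^ 4), Nat.zero_le (d ^ 3), Nat.zero_le (d ^ 2)]

variable (hS : MinusSix Q) {P : HP Q} {M : Subgroup (Grp Q)}
include hS

/-- A point at which the parameters perpendicular to a neighbour lie on its line. -/
theorem MinusSix.thin_bound {w : ι → F} (hwq : Q w = 0)
    (hw0 : w ≠ 0) (hker : ∀ y ∈ P.A M hS.nondeg, B w y = 0 → y ∈ Submodule.span F {w})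
    (hne : ∃ y ∈ P.A M hS.nondeg, y ≠ 0) : (q + 1) * (q ^ 3 + 1) ≤ M.relIndex (El Q) := by
  classical
  cases nonempty_fintype F
  have hq2 := two_le_card (F := F)
  obtain ⟨p, e, hp, he, hq, -⟩ := exists_char (F := F)
  have hnear := P.card_near_le M
  let φ : P.A M hS.nondeg →+ F :=
    { toFun := fun y => B w (y : ι → F)
      map_zero' := b_zero_right _
      map_add' := fun a b => b_add_right _ _ _ }
  let K : AddSubgroup (ι → F) :=
    { carrier := {y | y ∈ P.A M hS.nondeg ∧ B w y = 0}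
      zero_mem' := ⟨AddSubgroup.zero_mem _, b_zero_right _⟩
      add_mem' := fun ha hb => ⟨AddSubgroup.add_mem _ ha.1 hb.1, by rw [b_add_right, ha.2, hb.2, add_zero]⟩
      neg_mem' := fun ha => ⟨AddSubgroup.neg_mem _ ha.1, by
        rw [← neg_one_smul F, b_smul_right, ha.2, mul_zero]⟩ }
  have hKφ : Nat.card φ.ker = Nat.card K := Nat.card_congr
    ⟨fun x => ⟨x.1.1, x.1.2, x.2⟩, fun x => ⟨⟨x.1, x.2.1⟩, x.2.2⟩, fun _ => rfl, fun _ => rfl⟩
  have hα : Nat.card (P.A M hS.nondeg) = Nat.card K * Nat.card φ.range := by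
    rw [AddSubgroup.card_eq_card_quotient_mul_card_addSubgroup φ.ker, mul_comm, hKφ,
      Nat.card_congr (QuotientAddGroup.quotientKerEquivRange φ).toEquiv]
  have hKspan : ∀ y : K, (y : ι → F) ∈ Submodule.span F {w} := fun y => hker _ y.2.1 y.2.2
  have hKinj : Function.Injective fun y : K => (⟨y, hKspan y⟩ : Submodule.span F {w}) := fun a b h =>
    Subtype.ext (congrArg (fun z : Submodule.span F {w} => (z : ι → F)) h)
  have hspan : Nat.card (Submodule.span F {w}) = q := by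
    rw [card_subspace, finrank_span_singleton hw0, pow_one]
  have hK : Nat.card K ≤ q := hspan ▸ Nat.card_le_card_of_injective _ hKinj
  have hR : Nat.card φ.range ≤ q := Finite.card_subtype_le _
  obtain ⟨a, haA, ha0⟩ := hne
  by_cases h1 : Nat.card K = 1 ∨ Nat.card φ.range = 1
  · -- few parameters
    have hαq : Nat.card (P.A M hS.nondeg) ≤ q := by rcases h1 with h | h <;> rw [hα, h] <;> omega
    have hn : Nat.card {x : ι → F // x ∈ P.A M hS.nondeg ∧ x ≠ 0 ∧ Q x = Q a} + 1 ≤ q := by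
      refine le_trans ?_ hαq
      rw [← Finite.card_option]
      refine Nat.card_le_card_of_injective (fun o : Option {x : ι → F // x ∈ P.A M hS.nondeg ∧ x ≠ 0 ∧ Q x = Q a} =>
        (o.elim 0 fun x => ⟨x.1, x.2.1⟩ : P.A M hS.nondeg)) fun u v h => ?_
      have h' := congrArg Subtype.val h
      rcases u with _ | u <;> rcases v with _ | v <;> simp only [Option.elim, AddSubgroup.coe_zero] at h'
      · rfl
      · exact absurd h'.symm v.2.2.1
      · exact absurd h' u.2.2.1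
      · exact congrArg some (Subtype.ext h')
    have h2 := (hS.near_single P M (c := Q a) ⟨a, haA, ha0, rfl⟩).trans (Nat.mul_le_mul hnear
      (Nat.mul_le_mul hαq (show _ ≤ q - 1 by omega)))
    have h3 := (Nat.mul_le_mul_left (q ^ 4) (hS.le_card_level P (Q a))).trans h2
    obtain ⟨d, hd⟩ : ∃ d, q = d + 2 := ⟨q - 2, by omega⟩
    rw [hd] at h3 ⊢
    rw [show (d + 2) ^ 3 = (d + 2) ^ 2 * (d + 1) + (d + 2) ^ 2 by ring, Nat.add_sub_cancel,
      show d + 2 - 1 = d + 1 by omega] at h3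
    refine (pow_five_ge (by omega)).trans ?_
    refine Nat.le_of_mul_le_mul_right (c := (d + 2) * (d + 1)) ?_ (by positivity)
    calc _ = (d + 2) ^ 4 * ((d + 2) ^ 2 * (d + 1)) := by ring
      _ ≤ _ := h3
  push Not at h1
  have hKpos : 0 < Nat.card K := Nat.card_pos
  have hRpos : 0 < Nat.card φ.range := Nat.card_pos
  -- singular parameters
  have hn : Nat.card {x : ι → F // x ∈ P.A M hS.nondeg ∧ x ≠ 0 ∧ Q x = 0} + 2 ≤
      Nat.card K + Nat.card φ.range := by
    have hcK : Nat.card {y : K // y ≠ 0} = Nat.card K - 1 := by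
      haveI := Fintype.ofFinite K
      rw [Nat.card_eq_fintype_card, Fintype.card_subtype_compl, Fintype.card_subtype_eq,
        ← Nat.card_eq_fintype_card]
    have hcR : Nat.card {r : φ.range // r ≠ 0} = Nat.card φ.range - 1 := by
      haveI := Fintype.ofFinite φ.range
      rw [Nat.card_eq_fintype_card, Fintype.card_subtype_compl, Fintype.card_subtype_eq,
        ← Nat.card_eq_fintype_card]
    have hle : Nat.card {x : ι → F // x ∈ P.A M hS.nondeg ∧ x ≠ 0 ∧ Q x = 0} ≤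
        Nat.card ({y : K // y ≠ 0} ⊕ {r : φ.range // r ≠ 0}) := by
      refine Nat.card_le_card_of_injective (fun x => if h : B w x.1 = 0
        then Sum.inl ⟨⟨x.1, x.2.1, h⟩, fun e0 => x.2.2.1 (congrArg Subtype.val e0)⟩
        else Sum.inr ⟨⟨_, ⟨x.1, x.2.1⟩, rfl⟩, fun e0 => h (congrArg Subtype.val e0)⟩) fun u v huv => ?_
      dsimp only at huv
      split_ifs at huv with hu hv
      · exact Subtype.ext (congrArg (fun z : {y : K // y ≠ 0} => ((z : K) : ι → F)) (Sum.inl.inj huv))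
      · have hr : B w u.1 = B w v.1 :=
          congrArg (fun z : {r : φ.range // r ≠ 0} => ((z : φ.range) : F)) (Sum.inr.inj huv)
        obtain ⟨s, hs⟩ := Submodule.mem_span_singleton.1
          (hker _ ((P.A M hS.nondeg).sub_mem v.2.1 u.2.1) (by rw [b_sub_right, hr, sub_self]))
        have h4 : Q v.1 = 0 := v.2.2.2
        rw [show v.1 = u.1 + s • w by rw [hs]; abel, q_add, q_smul, hwq, u.2.2.2, b_smul_right,
          b_comm u.1 w] at h4
        have h5 : s * B w u.1 = 0 := by linear_combination h4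
        rw [(mul_eq_zero.1 h5).resolve_right hu, zero_smul, eq_comm, sub_eq_zero] at hs
        exact Subtype.ext hs.symm
    rw [Nat.card_sum, hcK, hcR] at hle
    omega
  by_cases hKq : Nat.card K = q
  · -- a pair
    have hall : ∀ s : F, s • w ∈ P.A M hS.nondeg := by
      intro s
      have hb : Function.Bijective fun y : K => (⟨y, hKspan y⟩ : Submodule.span F {w}) :=
        (Nat.bijective_iff_injective_and_card _).2 ⟨hKinj, hKq.trans hspan.symm⟩
      obtain ⟨y, hy⟩ := hb.2 ⟨s • w, Submodule.smul_mem _ _ (Submodule.mem_span_singleton_self w)⟩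
      rw [← show (y : ι → F) = s • w from congrArg Subtype.val hy]
      exact y.2.1
    obtain ⟨⟨_, y, rfl⟩, hy⟩ : ∃ r : φ.range, r ≠ 0 := by
      haveI : Nontrivial φ.range := Finite.one_lt_card_iff_nontrivial.1 (by omega)
      exact exists_ne 0
    obtain ⟨r, hr⟩ : ∃ r, r = B w (y : ι → F) := ⟨_, rfl⟩
    have hr0 : r ≠ 0 := fun e0 => hy (Subtype.ext (hr.symm.trans e0))
    have hbA : (y : ι → F) + (-Q (y : ι → F) / r) • w ∈ P.A M hS.nondeg :=
      (P.A M hS.nondeg).add_mem y.2 (hall _)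
    refine (pair_arith hq2 ((hS.near_pair P M (hall r⁻¹) hbA (by rw [q_smul, hwq, mul_zero]) ?_ ?_).trans
      (Nat.mul_le_mul_right _ hnear)) ?_ (by omega))
    · rw [q_add, q_smul, hwq, b_smul_right, b_comm _ w, ← hr]; field_simp; ring
    · rw [b_smul_left, b_add_right, b_smul_right, b_self_zero hwq, ← hr, mul_zero, add_zero,
        inv_mul_cancel₀ hr0]
    · rw [hα, sq]; exact Nat.mul_le_mul hK hR
  · -- part of the line
    obtain ⟨i, hi⟩ := exists_card_pow hp hq K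
    have h2K : 2 * Nat.card K ≤ q := by
      rw [hi, hq] at hK
      have hie : i < e := lt_of_le_of_ne ((Nat.pow_le_pow_iff_right hp.one_lt).1 hK) fun e0 =>
        hKq (by rw [hi, hq, e0])
      calc 2 * Nat.card K ≤ p * p ^ i := by rw [hi]; exact Nat.mul_le_mul_right _ hp.two_le
        _ = p ^ (i + 1) := (pow_succ' p i).symm
        _ ≤ q := hq ▸ Nat.pow_le_pow_right hp.pos hie
    obtain ⟨x, hx⟩ : ∃ x : K, x ≠ 0 := by
      haveI : Nontrivial K := Finite.one_lt_card_iff_nontrivial.1 (by omega)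
      exact exists_ne 0
    obtain ⟨s, hs⟩ := Submodule.mem_span_singleton.1 (hKspan x)
    have h2 := hS.near_single P M (c := 0) ⟨x, x.2.1, fun e0 => hx (Subtype.ext e0),
      by rw [← hs, q_smul, hwq, mul_zero]⟩
    rw [hS.card_singular P] at h2
    exact few_arith hq2 (h2.trans (Nat.mul_le_mul_right _ hnear))
      (hα.trans_le (Nat.mul_le_mul_left _ hR)) hn hR h2K

/-- Either the index is large, or there is a complement. -/
theorem MinusSix.exists_compl (hM : ¬ El Q ≤ M) :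
    (q + 1) * (q ^ 3 + 1) ≤ M.relIndex (El Q) ∨ ∃ P : HP Q, Compl P M hS.nondeg := by
  classical
  have hq2 := two_le_card (F := F)
  have h2 : (q + 1) * (q ^ 3 + 1) ≤ 2 * q ^ 4 := by
    have h3 : q ^ 3 * 2 ≤ q ^ 3 * q := Nat.mul_le_mul_left _ hq2
    have h4 : 2 * 2 ≤ q ^ 2 := by rw [sq]; exact Nat.mul_le_mul hq2 hq2
    have h5 := Nat.mul_le_mul_left q h4
    ring_nf at h3 h5 ⊢
    omega
  have hzero : ∀ P : HP Q, (∀ x ∈ P.A M hS.nondeg, x = 0) →
      (q + 1) * (q ^ 3 + 1) ≤ M.relIndex (El Q) ∨ ∃ P : HP Q, Compl P M hS.nondeg := fun P hA =>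
    (P.compl_or M hS.nondeg hS.dim hA).elim (fun h => Or.inr ⟨P, h⟩) fun h => Or.inl (h2.trans h)
  obtain ⟨P, hP⟩ : ∃ P : HP Q, ∃ x ∈ P.W, x ∉ P.A M hS.nondeg := by
    obtain ⟨s, f, -, -, -, hs, hf, hsf⟩ := exists_pair_in hS.nondeg (nondegOn_top hS.nondeg) (P := ⊥) le_top
      (by rw [finrank_bot, finrank_top, hS.dim]; omega)
    have key : ∀ P : HP Q, (∀ x ∈ P.W, x ∈ P.A M hS.nondeg) → ∀ x g, IsSiegel P.v x g → g ∈ M := by
      intro P hP x g hg
      have h := inM_add M hS.nondeg (hP _ (P.pW_mem x)).2 (inM_self M hS.nondeg P.hv (B P.f x))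
      rw [← P.eq_pW hg.2.1] at h
      exact h.2 g hg
    by_contra hc
    push Not at hc
    exact hM (El_le_of_two hS.nondeg hs hf (by rw [hsf]; exact one_ne_zero)
      (key ⟨s, f, hs, hf, hsf⟩ (hc _)) (key ⟨f, s, hf, hs, by rw [b_comm, hsf]⟩ (hc _)))
  by_cases hA : ∀ x ∈ P.A M hS.nondeg, x = 0
  · exact hzero P hA
  push Not at hA
  obtain ⟨R, hRv, hRf, hker⟩ := hS.exists_thin hA hP
  by_cases hRA : ∀ x ∈ R.A M hS.nondeg, x = 0
  · exact hzero R hRA
  push Not at hRA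
  exact Or.inl (hS.thin_bound P.hv P.v_ne hker hRA)

end CfsgLib.MinIndexOrth
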