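import Cfsg.Agent.Lib.MinIndexOrth.Four.Counts
import Cfsg.Agent.Lib.MinIndexOrth.Local

/-!
Cosets at a point against vectors and pairs attached to the parameters.
-/

set_option autoImplicit false
set_option linter.unusedSectionVars false

namespace CfsgLib.MinIndexOrth

open CfsgLib.Orth

variable {F : Type*} [Field F] [Finite F] {ι : Type} [Fintype ι] [DecidableEq ι]
variable {Q : QuadraticForm F (ι → F)}

local notation "B" => QuadraticMap.polar (DFunLike.coe Q)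
local notation "q" => Nat.card F

/-- The cosets at a point against the orbit of the parameters. -/
theorem HP.near_orbit_one (P : HP Q) (M : Subgroup (Grp Q)) (hB : Nondeg Q) :
    Nat.card P.W * Nat.card (P.orbitA M hB) ≤ Nat.card (P.near M) * Nat.card (P.A M hB) := by
  have h := P.near_orbit M hB (E := Unit) (fun _ => 1) (fun _ => one_mem _) (fun _ => ap_one _)
    (fun _ => (Set.image_congr fun x hx => P.lin_one hx.1).trans (Set.image_id _))
    (fun e e' hee => absurd (Subsingleton.elim e e') hee)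
  rwa [Nat.card_unique, one_mul] at h

theorem card_fin_one (p : (ι → F) → Prop) :
    Nat.card {t : Fin 1 → ι → F | p (t 0)} = Nat.card {x : ι → F // p x} :=
  Nat.card_congr ⟨fun t => ⟨t.1 0, t.2⟩, fun x => ⟨fun _ => x.1, x.2⟩,
    fun t => Subtype.ext (funext fun i => by rw [Subsingleton.elim i 0]), fun _ => rfl⟩

/-- A level set against the parameters having that value. -/
theorem MinusSix.near_single (hS : MinusSix Q) (P : HP Q) (M : Subgroup (Grp Q)) {c : F}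
    (hc : ∃ a ∈ P.A M hS.nondeg, a ≠ 0 ∧ Q a = c) :
    q ^ 4 * Nat.card {x : ι → F // x ∈ P.W ∧ x ≠ 0 ∧ Q x = c} ≤ Nat.card (P.near M) *
      (Nat.card (P.A M hS.nondeg) *
        Nat.card {x : ι → F // x ∈ P.A M hS.nondeg ∧ x ≠ 0 ∧ Q x = c}) := by
  classical
  obtain ⟨a, ha, ha0, haq⟩ := hc
  have h := P.set_orbit (κ := Fin 1) (D := (P.A M hS.nondeg : Set (ι → F))) (fun _ h => h.1)
    {t | t 0 ∈ P.A M hS.nondeg ∧ t 0 ≠ 0 ∧ Q (t 0) = c}
    (fun t ht i => by rw [Subsingleton.elim i 0]; exact ht.1.1) (fun g _ hgv himg t ht => by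
      refine ⟨?_, fun e => ht.2.1 ?_, (P.lin_q hgv ht.1.1).trans ht.2.2⟩
      · rw [← SetLike.mem_coe, ← himg]; exact ⟨_, ht.1, rfl⟩
      · rw [← P.lin_inv hgv ht.1.1, show P.lin g (t 0) = 0 from e, HP.lin, ap_zero, HP.pW, b_zero_right,
          b_zero_right, zero_smul, zero_smul, sub_zero, sub_zero])
    {t | t 0 ∈ P.W ∧ t 0 ≠ 0 ∧ Q (t 0) = c} (fun o ho => by
      obtain ⟨g, hg, gv, -, gx⟩ := hS.exists_move P ha.1 ho.1 ha0 ho.2.1 (haq.trans ho.2.2.symm)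
      refine ⟨g, hg, gv, fun _ => a, ⟨ha, ha0, haq⟩, funext fun i => ?_⟩
      rw [Subsingleton.elim i 0, HP.lin, gx, P.pW_of_mem ho.1])
  rw [card_fin_one fun x => x ∈ P.W ∧ x ≠ 0 ∧ Q x = c,
    card_fin_one fun x => x ∈ P.A M hS.nondeg ∧ x ≠ 0 ∧ Q x = c] at h
  refine (Nat.mul_le_mul_left _ h).trans ?_
  rw [← hS.card_W P, ← mul_assoc, ← mul_assoc]
  exact Nat.mul_le_mul_right _ (P.near_orbit_one M hS.nondeg)

/-- Hyperbolic pairs against those among the parameters. -/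
theorem MinusSix.near_pair (hS : MinusSix Q) (P : HP Q) (M : Subgroup (Grp Q)) {a b : ι → F}
    (ha : a ∈ P.A M hS.nondeg) (hb : b ∈ P.A M hS.nondeg) (haq : Q a = 0) (hbq : Q b = 0)
    (hab : B a b = 1) :
    q ^ 4 * ((q ^ 2 + 1) * (q - 1) * q ^ 2) ≤ Nat.card (P.near M) *
      (Nat.card (P.A M hS.nondeg) *
        (Nat.card {x : ι → F // x ∈ P.A M hS.nondeg ∧ x ≠ 0 ∧ Q x = 0} *
          (Nat.card {x : ι → F // x ∈ P.A M hS.nondeg ∧ x ≠ 0 ∧ Q x = 0} - 1))) := by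
  classical
  cases nonempty_fintype F
  let p : (ι → F) → (ι → F) → Prop := fun x y => Q x = 0 ∧ Q y = 0 ∧ B x y = 1
  have hp0 : ∀ x y, p x y → x ≠ 0 ∧ y ≠ 0 ∧ y ≠ x := fun x y h =>
    ⟨fun e => zero_ne_one (α := F) (by rw [← h.2.2, e, b_zero_left]),
      fun e => zero_ne_one (α := F) (by rw [← h.2.2, e, b_zero_right]),
      fun e => zero_ne_one (α := F) (by rw [← h.2.2, e, b_self_zero h.1])⟩
  let T : Set (Fin 2 → ι → F) := {t | t 0 ∈ P.A M hS.nondeg ∧ t 1 ∈ P.A M hS.nondeg ∧ p (t 0) (t 1)}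
  let O : Set (Fin 2 → ι → F) := {t | t 0 ∈ P.W ∧ t 1 ∈ P.W ∧ p (t 0) (t 1)}
  have h := P.set_orbit (D := (P.A M hS.nondeg : Set (ι → F))) (fun _ h => h.1) T
    (fun t ht i => by fin_cases i; exacts [ht.1.1, ht.2.1.1]) (fun g _ hgv himg t ht => by
      refine ⟨?_, ?_, (P.lin_q hgv ht.1.1).trans ht.2.2.1, (P.lin_q hgv ht.2.1.1).trans ht.2.2.2.1,
        (P.lin_b hgv ht.1.1 ht.2.1.1).trans ht.2.2.2.2⟩
      · rw [← SetLike.mem_coe, ← himg]; exact ⟨_, ht.1, rfl⟩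
      · rw [← SetLike.mem_coe, ← himg]; exact ⟨_, ht.2.1, rfl⟩)
    O (fun o ho => by
      obtain ⟨g, hg, gv, -, g1, g2⟩ := hS.exists_move_pair P ha.1 hb.1 ho.1 ho.2.1 haq hbq hab
        ho.2.2.1 ho.2.2.2.1 ho.2.2.2.2
      refine ⟨g, hg, gv, ![a, b], ⟨ha, hb, haq, hbq, hab⟩, funext fun i => ?_⟩
      fin_cases i
      · show o 0 = P.lin g a
        rw [HP.lin, g1, P.pW_of_mem ho.1]
      · show o 1 = P.lin g b
        rw [HP.lin, g2, P.pW_of_mem ho.2.1])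
  have hO : (q ^ 2 + 1) * (q - 1) * q ^ 2 ≤ Nat.card O := by
    let S₁ := {x : ι → F // x ∈ P.W ∧ x ≠ 0 ∧ Q x = 0}
    let S₂ : S₁ → Type _ := fun x => {b : ι → F // b ∈ P.W ∧ Q b = 0 ∧ B (x : ι → F) b = 1}
    haveI : Fintype S₁ := Fintype.ofFinite _
    have h1 : Nat.card (Σ x : S₁, S₂ x) ≤ Nat.card O := by
      refine Nat.card_le_card_of_injective (fun z => (⟨![(z.1 : ι → F), (z.2 : ι → F)],
        z.1.2.1, z.2.2.1, z.1.2.2.2, z.2.2.2.1, z.2.2.2.2⟩ : O)) ?_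
      rintro ⟨x, y⟩ ⟨x', y'⟩ e
      have e' := congrArg Subtype.val e
      obtain rfl : x = x' := Subtype.ext (congrFun e' 0)
      obtain rfl : y = y' := Subtype.ext (congrFun e' 1)
      rfl
    refine le_trans ?_ h1
    rw [Nat.card_sigma, ← hS.card_singular P, Nat.card_eq_fintype_card, ← smul_eq_mul]
    exact Finset.card_nsmul_le_sum Finset.univ _ _ fun x _ => hS.le_card_second P x.2.1 x.2.2.1 x.2.2.2
  have hT : Nat.card T ≤ Nat.card {x : ι → F // x ∈ P.A M hS.nondeg ∧ x ≠ 0 ∧ Q x = 0} *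
      (Nat.card {x : ι → F // x ∈ P.A M hS.nondeg ∧ x ≠ 0 ∧ Q x = 0} - 1) := by
    let N := {x : ι → F // x ∈ P.A M hS.nondeg ∧ x ≠ 0 ∧ Q x = 0}
    haveI : Fintype N := Fintype.ofFinite _
    have h1 : Nat.card T ≤ Nat.card (Σ x : N, {y : N // y ≠ x}) := by
      refine Nat.card_le_card_of_injective (fun t =>
        (⟨⟨t.1 0, t.2.1, (hp0 _ _ t.2.2.2).1, t.2.2.2.1⟩,
          ⟨⟨t.1 1, t.2.2.1, (hp0 _ _ t.2.2.2).2.1, t.2.2.2.2.1⟩,
            fun e => (hp0 _ _ t.2.2.2).2.2 (congrArg Subtype.val e)⟩⟩ : Σ x : N, {y : N // y ≠ x}))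
        fun t t' e => Subtype.ext (funext fun i => ?_)
      fin_cases i
      · exact congrArg (fun z : Σ x : N, {y : N // y ≠ x} => (z.1 : ι → F)) e
      · exact congrArg (fun z : Σ x : N, {y : N // y ≠ x} => ((z.2 : N) : ι → F)) e
    refine h1.trans (le_of_eq ?_)
    rw [Nat.card_sigma, Nat.card_eq_fintype_card, ← Finset.card_univ, ← smul_eq_mul]
    refine Finset.sum_const_nat fun x _ => ?_
    rw [Nat.card_eq_fintype_card, Fintype.card_subtype_compl, Fintype.card_subtype_eq,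
      Finset.card_univ]
  refine (Nat.mul_le_mul_left _ (hO.trans h)).trans ?_
  rw [← hS.card_W P, ← mul_assoc]
  refine (Nat.mul_le_mul (P.near_orbit_one M hS.nondeg) hT).trans ?_
  rw [mul_assoc]

end CfsgLib.MinIndexOrth
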