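import Cfsg.Agent.Lib.MinIndexOrth.Four.Few
import Cfsg.Agent.Lib.MinIndexOrth.Small
import Cfsg.Agent.Lib.MinIndexOrth.LevelsSmall

/-!
Two orbits on points, and a point with a hyperplane of parameters.
-/

set_option autoImplicit false
set_option linter.unusedSectionVars false

namespace CfsgLib.MinIndexOrth

open CfsgLib.Orth

variable {F : Type*} [Field F] [Finite F] {ι : Type} [Fintype ι] [DecidableEq ι]
variable {Q : QuadraticForm F (ι → F)}

local notation "B" => QuadraticMap.polar (DFunLike.coe Q)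
local notation "q" => Nat.card F

theorem HP.mem_pointOrbit (P : HP Q) (M : Subgroup (Grp Q)) : P.v ∈ pointOrbit P M :=
  ⟨1, one_mem M, 1, one_ne_zero, by rw [ap_one, one_smul]⟩

/-- The cosets at a point against its orbit. -/
theorem HP.orbit_near (P : HP Q) (M : Subgroup (Grp Q)) (hB : Nondeg Q)
    (hn : 5 ≤ Module.finrank F (ι → F)) :
    Nat.card {y : ι → F // y ≠ 0 ∧ Q y = 0} * Nat.card (P.near M) ≤
      M.relIndex (El Q) * Nat.card (pointOrbit P M) := by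
  classical
  choose h hh hhv using fun y : {y : ι → F // y ≠ 0 ∧ Q y = 0} =>
    exists_move_vec hB hn P.v_ne y.2.1 (P.hv.trans y.2.2.symm)
  choose r hrv hrC using fun C : P.near M => C.2
  choose g hg using fun C : El Q ⧸ M.subgroupOf (El Q) => QuotientGroup.mk_surjective C
  let Φ : {y : ι → F // y ≠ 0 ∧ Q y = 0} × P.near M → El Q ⧸ M.subgroupOf (El Q) := fun p =>
    QuotientGroup.mk ⟨h p.1 * (r p.2 : Grp Q), mul_mem (hh p.1) (r p.2).2⟩
  have hm : ∀ p, (g (Φ p) : Grp Q)⁻¹ * (h p.1 * (r p.2 : Grp Q)) ∈ M := fun p => by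
    have := hg (Φ p)
    simpa [Φ, Subgroup.mem_subgroupOf] using QuotientGroup.eq.1 this
  have happ : ∀ p, ap ((g (Φ p) : Grp Q)⁻¹ * (h p.1 * (r p.2 : Grp Q))) P.v =
      ap (g (Φ p) : Grp Q)⁻¹ (p.1 : ι → F) := fun p => by
    rw [ap_mul, ap_mul, hrv p.2, hhv p.1]
  rw [← Nat.card_prod, Subgroup.relIndex, Subgroup.index_eq_card, ← Nat.card_prod]
  refine Nat.card_le_card_of_injective (fun p => (Φ p, (⟨ap (g (Φ p) : Grp Q)⁻¹ (p.1 : ι → F),
    _, hm p, 1, one_ne_zero, by rw [one_smul, happ]⟩ : pointOrbit P M))) ?_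
  rintro ⟨y, C⟩ ⟨y', C'⟩ e
  obtain ⟨e1, e2⟩ := Prod.ext_iff.1 e
  have e3 : ap (g (Φ (y, C)) : Grp Q)⁻¹ (y : ι → F) = ap (g (Φ (y', C')) : Grp Q)⁻¹ (y' : ι → F) :=
    congrArg Subtype.val e2
  rw [← show Φ (y, C) = Φ (y', C') from e1] at e3
  obtain rfl : y = y' := Subtype.ext (ap_inj _ e3)
  refine Prod.ext rfl (Subtype.ext ?_)
  have h1 := QuotientGroup.eq.1 (show Φ (y, C) = Φ (y, C') from e1)
  rw [← hrC C, ← hrC C', QuotientGroup.eq]
  simpa [Subgroup.mem_subgroupOf, mul_assoc] using h1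

/-- A point with parameters off its line is not in the orbit of a complement. -/
theorem Compl.not_mem_orbit {P : HP Q} {M : Subgroup (Grp Q)} {hB : Nondeg Q} (hC : Compl P M hB)
    {z x : ι → F} (hx : InM M z x) (hxn : x ∉ Submodule.span F {z}) : z ∉ pointOrbit P M := by
  rintro ⟨m, hm, a, ha, rfl⟩
  have h1 := inM_conj M hB (inv_mem hm) hx
  rw [ap_smul, ap_inv_ap, inM_smul_iff M hB P.hv ha, ← ap_smul] at h1
  have h2 := hC.triv _ (P.pW_mem_A M hB h1)
  have h3 := P.eq_pW h1.1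
  rw [h2, zero_add] at h3
  refine hxn (Submodule.mem_span_singleton.2 ⟨a⁻¹ * a⁻¹ * B P.f (ap m⁻¹ (a • x)), ?_⟩)
  have h4 := congrArg (ap m) h3
  rw [ap_ap_inv, ap_smul] at h4
  refine smul_right_injective _ ha ?_
  show a • ((a⁻¹ * a⁻¹ * B P.f (ap m⁻¹ (a • x))) • a • ap m P.v) = a • x
  refine Eq.trans ?_ h4.symm
  rw [smul_smul, smul_smul]
  congr 1
  field_simp

theorem two_arith {s N X O O' n n' : ℕ} (hs : 2 ≤ s) (hN : N = (s + 1) * (s ^ 3 + 1) * (s - 1))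
    (hO : O + O' ≤ N) (h : N * n ≤ X * O) (h' : N * n' ≤ X * O') (hn : s ^ 4 ≤ n)
    (hn' : s ^ 3 + s ≤ n') : (s + 1) * (s ^ 3 + 1) ≤ X := by
  by_contra hlt
  obtain ⟨W, hW⟩ : ∃ W, (s + 1) * (s ^ 3 + 1) = W + 1 := ⟨(s + 1) * (s ^ 3 + 1) - 1, by
    have : 0 < (s + 1) * (s ^ 3 + 1) := by positivity
    omega⟩
  rw [hW] at hlt hN
  have hWs : W = s * (s ^ 3 + s ^ 2 + 1) := by ring_nf at hW ⊢; omega
  have hsum : W = s ^ 4 + (s ^ 3 + s) := by ring_nf at hWs ⊢; omega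
  have hXW : X ≤ W := by omega
  have h1 : N * s ^ 4 ≤ W * O := (Nat.mul_le_mul_left _ hn).trans (h.trans (Nat.mul_le_mul_right _ hXW))
  have h2 : N * (s ^ 3 + s) ≤ W * O' :=
    (Nat.mul_le_mul_left _ hn').trans (h'.trans (Nat.mul_le_mul_right _ hXW))
  have h3 : W * O + W * O' ≤ N * s ^ 4 + N * (s ^ 3 + s) := by
    rw [← Nat.mul_add, ← Nat.mul_add, ← hsum, mul_comm N]
    exact Nat.mul_le_mul_left _ hO
  have heq : W * O = N * s ^ 4 := by omega
  have hd : W ∣ (W + 1) * ((s - 1) * s ^ 4) := ⟨O, by rw [← mul_assoc, ← hN, heq]⟩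
  have hd1 := (Nat.Coprime.dvd_mul_left
    (show Nat.Coprime W (W + 1) from Nat.coprime_self_add_right.2 (Nat.coprime_one_right _))).1 hd
  rw [hWs, pow_succ' s 3, show (s - 1) * (s * s ^ 3) = s * (s ^ 3 * (s - 1)) by ring] at hd1
  have hd2 := Nat.dvd_of_mul_dvd_mul_left (by omega) hd1
  have hc : Nat.Coprime (s ^ 3 + s ^ 2 + 1) s := by
    rw [show s ^ 3 + s ^ 2 + 1 = 1 + (s ^ 2 + s) * s by ring, Nat.coprime_add_mul_right_left]
    exact Nat.coprime_one_left s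
  have hd3 := (Nat.Coprime.dvd_mul_left (hc.pow_right 3)).1 hd2
  have := Nat.le_of_dvd (by omega) hd3
  have := Nat.le_self_pow (show 2 ≠ 0 by norm_num) s
  omega

variable (hS : MinusSix Q) {P : HP Q} {M : Subgroup (Grp Q)}
include hS

/-- A second orbit with enough cosets at its point. -/
theorem MinusSix.two_bound (hC : Compl P M hS.nondeg) {R : HP Q} (hR : R.v ∉ pointOrbit P M)
    (hnear : q ^ 3 + q ≤ Nat.card (R.near M)) : (q + 1) * (q ^ 3 + 1) ≤ M.relIndex (El Q) := by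
  classical
  have hn : 5 ≤ Module.finrank F (ι → F) := by rw [hS.dim]; norm_num
  have hP4 : q ^ 4 ≤ Nat.card (P.near M) := by
    have h := P.near_orbit_one M hS.nondeg
    rw [card_eq_one_iff.2 hC.triv, mul_one, hS.card_W P] at h
    haveI : Nonempty (P.orbitA M hS.nondeg) := ⟨⟨_, 1, one_mem _, ap_one _, rfl⟩⟩
    exact (Nat.le_mul_of_pos_right _ Nat.card_pos).trans h
  refine two_arith two_le_card hS.points ?_ (P.orbit_near M hS.nondeg hn) (R.orbit_near M hS.nondeg hn)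
    hP4 hnear
  have hz : ∀ (S : HP Q), ∀ y ∈ pointOrbit S M, y ≠ 0 ∧ Q y = 0 := by
    rintro S _ ⟨m, -, a, ha, rfl⟩
    exact ⟨smul_ne_zero ha fun e => S.v_ne (ap_inj m (by rw [e, ap_zero])),
      by rw [q_smul, ap_q, S.hv, mul_zero]⟩
  rw [← Nat.card_sum]
  refine Nat.card_le_card_of_injective (Sum.elim
    (fun y => (⟨y.1, hz P _ y.2⟩ : {y : ι → F // y ≠ 0 ∧ Q y = 0}))
    (fun y => ⟨y.1, hz R _ y.2⟩)) ?_
  have hdis : ∀ y : ι → F, y ∈ pointOrbit P M → y ∉ pointOrbit R M := by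
    rintro _ ⟨m, hm, a, ha, rfl⟩ ⟨m', hm', a', ha', e⟩
    refine hR ⟨m'⁻¹ * m, mul_mem (inv_mem hm') hm, a'⁻¹ * a, mul_ne_zero (inv_ne_zero ha') ha, ?_⟩
    rw [mul_smul, ap_mul, ← ap_smul (m'⁻¹), e, ap_smul, ap_inv_ap, smul_smul, inv_mul_cancel₀ ha', one_smul]
  rintro (a | a) (b | b) e <;>
    have e' := congrArg (fun z : {y : ι → F // y ≠ 0 ∧ Q y = 0} => (z : ι → F)) e <;>
    simp only [Sum.elim_inl, Sum.elim_inr] at e'
  · exact congrArg Sum.inl (Subtype.ext e')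
  · exact absurd (e' ▸ b.2) (hdis _ a.2)
  · exact absurd (e'.symm ▸ a.2) (hdis _ b.2)
  · exact congrArg Sum.inr (Subtype.ext e')

/-- The parameters are a hyperplane. -/
theorem MinusSix.near_hyperplane (R : HP Q) (M : Subgroup (Grp Q)) {w : ι → F} (hw : w ∈ R.W)
    (hw0 : w ≠ 0) (hA : ∀ x ∈ R.W, (x ∈ R.A M hS.nondeg ↔ B w x = 0)) :
    q ^ 3 + q ≤ Nat.card (R.near M) := by
  classical
  cases nonempty_fintype F
  have hq2 := two_le_card (F := F)
  obtain ⟨u, hu, hwu⟩ : ∃ u ∈ R.W, B w u = 1 := by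
    by_contra hc
    push Not at hc
    refine hw0 (R.nondeg hS.nondeg w hw fun y hy => ?_)
    by_contra hne
    exact hc ((B w y)⁻¹ • y) (R.W.smul_mem _ hy) (by rw [b_smul_right, inv_mul_cancel₀ hne])
  have hline : ∀ x ∈ R.W, (∀ a ∈ R.A M hS.nondeg, B x a = 0) → x = B x u • w := by
    intro x hx h
    refine sub_eq_zero.1 (R.nondeg hS.nondeg _ (R.W.sub_mem hx (R.W.smul_mem _ hw)) fun z hz => ?_)
    have h1 := h (z - B w z • u) ((hA _ (R.W.sub_mem hz (R.W.smul_mem _ hu))).2 (by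
      rw [b_sub_right, b_smul_right, hwu, mul_one, sub_self]))
    rw [b_sub_right, b_smul_right] at h1
    rw [b_sub_left, b_smul_left]
    linear_combination h1
  have hcard : Nat.card (R.A M hS.nondeg) ≤ q ^ 3 := by
    have hd : Module.finrank F ↥(R.W ⊓ orth Q (Submodule.span F {w})) ≤ 3 := by
      have hlt : R.W ⊓ orth Q (Submodule.span F {w}) < R.W := lt_of_le_of_ne inf_le_left fun e => by
        have h1 := (e.ge hu).2
        have h2 := mem_orth_span.1 h1 w rfl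
        rw [hwu] at h2
        exact one_ne_zero h2
      have h1 := Submodule.finrank_lt_finrank_of_lt hlt
      rw [hS.finrank_W R] at h1
      omega
    refine le_trans ?_ (Nat.pow_le_pow_right (by omega) hd)
    rw [← card_subspace]
    exact Nat.card_le_card_of_injective (fun x : R.A M hS.nondeg => (⟨x.1, x.2.1, mem_orth_span.2
      fun z hz => by rw [Set.mem_singleton_iff.1 hz]; exact (hA _ x.2.1).1 x.2⟩ :
      ↥(R.W ⊓ orth Q (Submodule.span F {w})))) fun a b e => Subtype.ext (congrArg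
        (fun z : ↥(R.W ⊓ orth Q (Submodule.span F {w})) => (z : ι → F)) e)
  let T : Set (Fin 1 → ι → F) :=
    {t | t 0 ∈ R.W ∧ t 0 ≠ 0 ∧ (∀ a ∈ R.A M hS.nondeg, B (t 0) a = 0) ∧ Q (t 0) = Q w}
  have h := R.set_orbit (κ := Fin 1) (D := (R.A M hS.nondeg : Set (ι → F))) (fun _ h => h.1) T
    (fun t ht i => by rw [Subsingleton.elim i 0]; exact ht.1) (fun g _ hgv himg t ht => by
      refine ⟨R.lin_mem _ _, fun e => ht.2.1 ?_, fun a ha => ?_, (R.lin_q hgv ht.1).trans ht.2.2.2⟩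
      · rw [← R.lin_inv hgv ht.1, show R.lin g (t 0) = 0 from e, R.lin_zero]
      · rw [← SetLike.mem_coe, ← himg] at ha
        obtain ⟨b, hb, rfl⟩ := ha
        rw [R.lin_b hgv ht.1 hb.1]
        exact ht.2.2.1 b hb)
    {t | t 0 ∈ R.W ∧ t 0 ≠ 0 ∧ Q (t 0) = Q w} (fun o ho => by
      obtain ⟨g, hg, gv, -, gx⟩ := hS.exists_move R hw ho.1 hw0 ho.2.1 ho.2.2.symm
      refine ⟨g, hg, gv, fun _ => w, ⟨hw, hw0, fun a ha => (hA a ha.1).1 ha, rfl⟩, funext fun i => ?_⟩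
      rw [Subsingleton.elim i 0, HP.lin, gx, R.pW_of_mem ho.1])
  rw [card_fin_one fun x => x ∈ R.W ∧ x ≠ 0 ∧ Q x = Q w] at h
  have hT1 : Nat.card T ≤ Nat.card {t : F // t ≠ 0 ∧ t * t * Q w = Q w} := by
    refine Nat.card_le_card_of_injective (fun t => (⟨B (t.1 0) u, fun e => ?_, ?_⟩ :
      {t : F // t ≠ 0 ∧ t * t * Q w = Q w})) fun a b e => ?_
    · have := hline _ t.2.1 t.2.2.2.1
      rw [e, zero_smul] at this
      exact t.2.2.1 this
    · rw [← q_smul, ← hline _ t.2.1 t.2.2.2.1, t.2.2.2.2]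
    · refine Subtype.ext (funext fun i => ?_)
      have e' : B (a.1 0) u = B (b.1 0) u := congrArg Subtype.val e
      rw [Subsingleton.elim i 0, hline _ a.2.1 a.2.2.2.1, hline _ b.2.1 b.2.2.2.1, e']
  have hTq : Nat.card {t : F // t ≠ 0 ∧ t * t * Q w = Q w} ≤ q - 1 := by
    rw [← Nat.card_units]
    exact Nat.card_le_card_of_injective (fun t : {t : F // t ≠ 0 ∧ t * t * Q w = Q w} => Units.mk0 t.1 t.2.1)
      fun a b e => Subtype.ext (congrArg Units.val e)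
  have h0 := (Nat.mul_le_mul_left (q ^ 4) h).trans (le_of_eq (mul_assoc _ _ _).symm)
  have h1 : q ^ 4 * Nat.card {x : ι → F // x ∈ R.W ∧ x ≠ 0 ∧ Q x = Q w} ≤
      Nat.card (R.near M) * q ^ 3 * Nat.card {t : F // t ≠ 0 ∧ t * t * Q w = Q w} := by
    refine h0.trans (Nat.mul_le_mul ?_ hT1)
    rw [← hS.card_W R]
    exact (R.near_orbit_one M hS.nondeg).trans (Nat.mul_le_mul_left _ hcard)
  rw [show q ^ 4 * _ = q ^ 3 * (q * Nat.card {x : ι → F // x ∈ R.W ∧ x ≠ 0 ∧ Q x = Q w}) by ring,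
    mul_comm (Nat.card (R.near M)), mul_assoc] at h1
  have h2 := Nat.le_of_mul_le_mul_left h1 (by positivity)
  by_cases hwq : Q w = 0
  · rw [hwq, hS.card_singular R] at h2
    rw [hwq] at hTq
    have h3 := h2.trans (Nat.mul_le_mul_left _ hTq)
    rw [← mul_assoc] at h3
    have h4 := Nat.le_of_mul_le_mul_right h3 (by omega)
    rw [show q * (q ^ 2 + 1) = q ^ 3 + q by ring] at h4
    exact h4
  have hT2 : Nat.card {t : F // t ≠ 0 ∧ t * t * Q w = Q w} ≤ 2 := by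
    refine le_trans (Nat.card_le_card_of_injective (fun t : {t : F // t ≠ 0 ∧ t * t * Q w = Q w} =>
      (⟨t.1, ?_⟩ : ({1, -1} : Finset F))) fun a b e => Subtype.ext (congrArg (fun z : ({1, -1} : Finset F) => (z : F)) e)) ?_
    · have h3 : t.1 * t.1 = 1 := mul_right_cancel₀ hwq (by rw [t.2.2, one_mul])
      rcases mul_self_eq_one_iff.1 h3 with h3 | h3 <;> simp [h3]
    · rw [Nat.card_eq_fintype_card, Fintype.card_coe]
      exact Finset.card_le_two
  rcases Nat.lt_or_ge q 4 with hq4 | hq4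
  · have hlev := lev_minus_ge hS.nondeg (by omega) 2 R.W (R.nondeg hS.nondeg) (hS.finrank_W R)
      (hS.no_half R) (Q w) hwq
    have h3 : lev Q R.W (Q w) ≤ Nat.card {x : ι → F // x ∈ R.W ∧ x ≠ 0 ∧ Q x = Q w} := by
      refine Nat.card_le_card_of_injective (fun x : {x : R.W // Q (x : ι → F) = Q w} =>
        (⟨((x : R.W) : ι → F), x.1.2, fun e => hwq (by rw [← x.2, e, QuadraticMap.map_zero]), x.2⟩ :
          {x : ι → F // x ∈ R.W ∧ x ≠ 0 ∧ Q x = Q w})) fun a b e => ?_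
      exact Subtype.ext (Subtype.ext (congrArg
        (fun z : {x : ι → F // x ∈ R.W ∧ x ≠ 0 ∧ Q x = Q w} => (z : ι → F)) e))
    have h5 := (hlev.trans (Nat.mul_le_mul_left _ h3)).trans (h2.trans (Nat.mul_le_mul_left _
      (show _ ≤ q - 1 from hTq)))
    rcases (show q = 2 ∨ q = 3 by omega) with e | e <;> rw [e] at h5 ⊢ <;> norm_num at h5 ⊢ <;> omega
  · have h5 := (Nat.mul_le_mul_left q (hS.le_card_level R (Q w))).trans
      (h2.trans (Nat.mul_le_mul_left _ hT2))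
    obtain ⟨d, hd⟩ : ∃ d, q = d + 4 := ⟨q - 4, by omega⟩
    rw [hd] at h5 ⊢
    rw [show (d + 4) ^ 3 = (d + 4) ^ 2 * (d + 3) + (d + 4) ^ 2 by ring, Nat.add_sub_cancel] at h5
    nlinarith [Nat.zero_le (d ^ 4), Nat.zero_le (d ^ 3), Nat.zero_le (d ^ 2)]

end CfsgLib.MinIndexOrth
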