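import Cfsg.Agent.Lib.MinIndexOrth.Four.Counts
import Cfsg.Agent.Lib.NumberTheory.Zsigmondy

/-!
The action on the complement of the elements of the subgroup fixing the point.
-/

set_option autoImplicit false
set_option linter.unusedSectionVars false

namespace CfsgLib.MinIndexOrth

open CfsgLib.Orth

/-- A map of prime order on an invariant set fixes as many points as there are, modulo the prime. -/
theorem modEq_fixed {V : Type*} (f : V → V) (S : Set V) [Finite S] (hS : ∀ x ∈ S, f x ∈ S) {r : ℕ}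
    (hr : r.Prime) (h : ∀ x ∈ S, f^[r] x = x) :
    Nat.card S ≡ Nat.card {x : S // f x = x} [MOD r] := by
  classical
  haveI := Fintype.ofFinite S
  haveI : Fact r.Prime := ⟨hr⟩
  let φ : Function.End S := fun x => ⟨f x, hS x x.2⟩
  have hit : ∀ (n : ℕ) (x : S), (((φ ^ n : Function.End S) x : S) : V) = f^[n] x := by
    intro n
    induction n with
    | zero => intro x; rfl
    | succ n ih =>
        intro x
        rw [pow_succ', Function.iterate_succ_apply']
        exact congrArg f (ih x)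
  have h1 := Equiv.Perm.card_fixedPoints_modEq (f := φ) (p := r) (n := 1) (by
    funext x
    exact Subtype.ext ((hit _ x).trans ((pow_one r).symm ▸ h x x.2)))
  rw [← Nat.card_eq_fintype_card, ← Nat.card_eq_fintype_card] at h1
  refine h1.trans (congrArg (· % r) (Nat.card_congr (Equiv.subtypeEquivRight fun x => ?_)))
  exact ⟨fun e => congrArg Subtype.val e, fun e => Subtype.ext e⟩

variable {F : Type*} [Field F] [Finite F] {ι : Type} [Fintype ι] [DecidableEq ι]
variable {Q : QuadraticForm F (ι → F)}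

local notation "B" => QuadraticMap.polar (DFunLike.coe Q)
local notation "q" => Nat.card F

theorem HP.lin_add (P : HP Q) (g : Grp Q) (x y : ι → F) : P.lin g (x + y) = P.lin g x + P.lin g y := by
  rw [HP.lin, ap_add, P.pW_add]; rfl

theorem HP.lin_smul (P : HP Q) (g : Grp Q) (c : F) (x : ι → F) : P.lin g (c • x) = c • P.lin g x := by
  rw [HP.lin, ap_smul, P.pW_smul]; rfl

theorem HP.lin_zero (P : HP Q) (g : Grp Q) : P.lin g 0 = 0 := by
  rw [← zero_smul F (0 : ι → F), P.lin_smul, zero_smul, zero_smul]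

theorem HP.fix_pow (P : HP Q) {g : Grp Q} (hg : ap g P.v = P.v) (n : ℕ) : ap (g ^ n) P.v = P.v := by
  induction n with
  | zero => rw [pow_zero, ap_one]
  | succ n ih => rw [pow_succ, ap_mul, hg, ih]

theorem HP.lin_iterate (P : HP Q) {g : Grp Q} (hg : ap g P.v = P.v) (n : ℕ) {x : ι → F} (hx : x ∈ P.W) :
    (P.lin g)^[n] x = P.lin (g ^ n) x := by
  induction n with
  | zero => rw [pow_zero, P.lin_one hx]; rfl
  | succ n ih => rw [Function.iterate_succ_apply', ih, pow_succ', P.lin_mul hg (P.fix_pow hg n) hx]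

theorem siegel_pow (u y : ι → F) {g : Grp Q} (hg : IsSiegel u y g) (n : ℕ) :
    IsSiegel u ((n : F) • y) (g ^ n) := by
  induction n with
  | zero => rw [Nat.cast_zero, zero_smul, pow_zero]; exact siegel_one hg.1
  | succ n ih =>
      rw [Nat.cast_succ, add_smul, one_smul, pow_succ]
      exact siegel_mul ih hg

theorem exists_char : ∃ p e : ℕ, p.Prime ∧ 0 < e ∧ q = p ^ e ∧ (p : F) = 0 := by
  cases nonempty_fintype F
  obtain ⟨p, hp, e, hpp, hpe⟩ := FiniteField.card' F
  exact ⟨p, e, hpp, e.pos, by rw [Nat.card_eq_fintype_card, hpe], CharP.cast_eq_zero F p⟩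

theorem exists_card_pow {p e : ℕ} (hp : p.Prime) (hq : q = p ^ e) (S : AddSubgroup (ι → F)) :
    ∃ i, Nat.card S = p ^ i := by
  have h := S.card_addSubgroup_dvd_card
  rw [Nat.card_fun, hq, ← pow_mul] at h
  obtain ⟨i, -, hi⟩ := (Nat.dvd_prime_pow hp).1 h
  exact ⟨i, hi⟩

/-- An element of large prime order fixing something of an invariant group fixes all of it. -/
theorem HP.lin_fix_all (P : HP Q) {g : Grp Q} (hg : ap g P.v = P.v) {p e m r : ℕ} (hp : p.Prime)
    (hq : q = p ^ e) (hW : Nat.card P.W = p ^ m)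
    (hr : r.Prime) (hrp : r ≠ p) (hrk : ∀ k, 0 < k → k < m → ¬ r ∣ p ^ k - 1)
    (hgr : ∀ x ∈ P.W, P.lin (g ^ r) x = x) (S : AddSubgroup (ι → F)) (hSW : ∀ x ∈ S, x ∈ P.W)
    (hS : ∀ x ∈ S, P.lin g x ∈ S)
    (h : Nat.card S < p ^ m ∨ ∃ x ∈ S, x ≠ 0 ∧ P.lin g x = x) : ∀ x ∈ S, P.lin g x = x := by
  classical
  let T : AddSubgroup (ι → F) :=
    { carrier := {x | x ∈ S ∧ P.lin g x = x}
      zero_mem' := ⟨S.zero_mem, P.lin_zero g⟩
      add_mem' := fun ha hb => ⟨S.add_mem ha.1 hb.1, by rw [P.lin_add, ha.2, hb.2]⟩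
      neg_mem' := fun ha => ⟨S.neg_mem ha.1, by
        rw [← neg_one_smul F, P.lin_smul, ha.2]⟩ }
  obtain ⟨i, hi⟩ := exists_card_pow hp hq S
  obtain ⟨j, hj⟩ := exists_card_pow hp hq T
  have hle : Nat.card T ≤ Nat.card S :=
    Nat.card_le_card_of_injective (fun x : T => (⟨x.1, x.2.1⟩ : S))
      fun a b e => Subtype.ext (congrArg (fun z : S => (z : ι → F)) e)
  have him : Nat.card S ≤ p ^ m := hW ▸ Nat.card_le_card_of_injective
    (fun x : S => (⟨x.1, hSW _ x.2⟩ : P.W))
      fun a b e => Subtype.ext (congrArg (fun z : P.W => (z : ι → F)) e)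
  have h1 := modEq_fixed (P.lin g) (S : Set (ι → F)) hS hr fun x hx => by
    rw [P.lin_iterate hg r (hSW x hx), hgr x (hSW x hx)]
  rw [show Nat.card {x : (S : Set (ι → F)) // P.lin g x = x} = Nat.card T from Nat.card_congr
    ⟨fun x => ⟨x.1.1, x.1.2, x.2⟩, fun x => ⟨⟨x.1, x.2.1⟩, x.2.2⟩, fun _ => rfl, fun _ => rfl⟩,
    show Nat.card (S : Set (ι → F)) = Nat.card S from rfl, hi, hj] at h1
  rw [hi, hj, Nat.pow_le_pow_iff_right hp.one_lt] at hle
  rw [hi, Nat.pow_le_pow_iff_right hp.one_lt] at him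
  have h2 : r ∣ p ^ (i - j) - 1 := by
    have h3 := (Nat.modEq_iff_dvd' (Nat.pow_le_pow_right hp.pos hle)).1 h1.symm
    rw [show p ^ i = p ^ j * p ^ (i - j) by rw [← pow_add, Nat.add_sub_cancel' hle],
      ← Nat.mul_sub_one] at h3
    exact (hr.dvd_mul.1 h3).resolve_left fun h4 =>
      hrp ((Nat.prime_dvd_prime_iff_eq hr hp).1 (hr.dvd_of_dvd_pow h4))
  have hij : i = j := by
    by_contra hne
    refine hrk (i - j) (by omega) ?_ h2
    rcases h with h | ⟨x, hx, hx0, hxf⟩
    · rw [hi, Nat.pow_lt_pow_iff_right hp.one_lt] at h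
      omega
    · have : 1 < Nat.card T := by
        have : Nontrivial T := ⟨⟨x, hx, hxf⟩, 0, fun e0 => hx0 (congrArg Subtype.val e0)⟩
        exact Finite.one_lt_card
      rw [hj] at this
      have : j ≠ 0 := fun e0 => by rw [e0, pow_zero] at this; omega
      omega
  intro x hx
  have hb : Function.Bijective fun x : T => (⟨x.1, x.2.1⟩ : S) :=
    (Nat.bijective_iff_injective_and_card _).2
      ⟨fun a b e => Subtype.ext (congrArg (fun z : S => (z : ι → F)) e), by rw [hi, hj, hij]⟩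
  obtain ⟨y, hy⟩ := hb.2 ⟨x, hx⟩
  rw [← show (y : ι → F) = x from congrArg Subtype.val hy]
  exact y.2.2

end CfsgLib.MinIndexOrth
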