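import Cfsg.Agent.Lib.MinIndexOrth.Four.Tiny
import Cfsg.Agent.Lib.MinIndexOrth.Minus

/-!
The bound in the quotient by the centre, in six dimensions of minus type.
-/

set_option autoImplicit false
set_option linter.unusedSectionVars false

namespace CfsgLib.MinIndexOrth

open CfsgLib.Orth

variable {F : Type*} [Field F] [Finite F] {ι : Type} [Fintype ι] [DecidableEq ι]
variable {Q : QuadraticForm F (ι → F)}

local notation "q" => Nat.card F

/-- A proper subgroup of `PΩ⁻₆(q)`. -/
theorem pomega_lower' (hS : MinusSix Q) (H : Subgroup (Cfsg.POmega F ⇑Q)) (hH : H ≠ ⊤) :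
    (q + 1) * (q ^ 3 + 1) ≤ H.index ∨ (q = 3 ∧ H.index = 81) := by
  have hn : 5 ≤ Module.finrank F (ι → F) := by rw [hS.dim]; norm_num
  have hB := hS.nondeg
  have hs : Function.Surjective (QuotientGroup.mk' (Subgroup.center (Cfsg.Omega F ⇑Q))) :=
    QuotientGroup.mk'_surjective _
  obtain ⟨K, hK⟩ : ∃ K, K = H.comap (QuotientGroup.mk' (Subgroup.center (Cfsg.Omega F ⇑Q))) := ⟨_, rfl⟩
  have hKH : K.index = H.index := hK ▸ H.index_comap_of_surjective hs
  have hsub : (K.map (Cfsg.Omega F ⇑Q).subtype).subgroupOf (Cfsg.Omega F ⇑Q) = K :=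
    Subgroup.comap_map_eq_self_of_injective (Subgroup.subtype_injective _) K
  have hle : ¬ El Q ≤ K.map (Cfsg.Omega F ⇑Q).subtype := fun hle => by
    rw [← omega_eq_El hB hn, ← Subgroup.subgroupOf_eq_top, hsub] at hle
    exact hH (Subgroup.comap_injective hs (by rw [← hK, hle, Subgroup.comap_top]))
  have h1 := hS.index_bound hle
  rwa [← omega_eq_El hB hn, Subgroup.relIndex, hsub, hKH] at h1

end CfsgLib.MinIndexOrth
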