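import Cfsg.Agent.Lib.MinIndexOrth.Four.Big

/-!
Complements over two and three elements.
-/

set_option autoImplicit false
set_option linter.unusedSectionVars false

namespace CfsgLib.MinIndexOrth

open CfsgLib.Orth

variable {F : Type*} [Field F] [Finite F] {ι : Type} [Fintype ι] [DecidableEq ι]
variable {Q : QuadraticForm F (ι → F)}

local notation "B" => QuadraticMap.polar (DFunLike.coe Q)
local notation "q" => Nat.card F

theorem exists_HP (hB : Nondeg Q) {z : ι → F} (hz : Q z = 0) (hz0 : z ≠ 0) : ∃ R : HP Q, R.v = z := by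
  obtain ⟨f, hf, hfq, hzf⟩ := exists_partner_in hB (nondegOn_top hB) (P := ⊥) bot_le
    ⟨trivial, fun p hp => by rw [(Submodule.mem_bot F).1 hp]; exact b_zero_left z⟩
    (fun h => hz0 ((Submodule.mem_bot F).1 h)) hz
  exact ⟨⟨z, f, hz, hfq, hzf⟩, rfl⟩

theorem HP.exists_mem_A (R : HP Q) (M : Subgroup (Grp Q)) (hB : Nondeg Q) {x : ι → F}
    (hx : InM M R.v x) (hxn : x ∉ Submodule.span F {R.v}) : ∃ a ∈ R.A M hB, a ≠ 0 := by
  refine ⟨_, R.pW_mem_A M hB hx, fun e => hxn ?_⟩
  have h := R.eq_pW hx.1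
  rw [e, zero_add] at h
  exact Submodule.mem_span_singleton.2 ⟨_, h.symm⟩

variable (hS : MinusSix Q) {P : HP Q} {M : Subgroup (Grp Q)}
include hS

/-- Over two elements the orbit of the point misses a point. -/
theorem MinusSix.exists_outside_two (hC : Compl P M hS.nondeg) (h2 : q = 2) :
    ∃ z : ι → F, Q z = 0 ∧ z ≠ 0 ∧ z ∉ pointOrbit P M := by
  classical
  cases nonempty_fintype F
  have h20 : (2 : F) = 0 := by
    have h := FiniteField.cast_card_eq_zero F
    rw [← Nat.card_eq_fintype_card, h2] at h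
    exact_mod_cast h
  have hneg : ∀ y : ι → F, -y = y := fun y => by
    rw [neg_eq_iff_add_eq_zero, ← two_smul F, h20, zero_smul]
  obtain ⟨c, hcW, hc0, hcq⟩ := hS.exists_singular_W P
  obtain ⟨R, hRv, hRf⟩ := P.exists_at hS.nondeg hcW hcq hc0
  subst hRv
  obtain ⟨hvc, -⟩ := P.mem_W.1 hcW
  have hd := hS.finrank_inf hcW hRf
  have hUn := inf_nondeg hS.nondeg hcW hRf
  obtain ⟨x, hxU, hx0⟩ := (P.W ⊓ R.W).exists_mem_ne_zero_of_ne_bot fun e => by
    rw [e, finrank_bot] at hd; omega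
  obtain ⟨hcx, hfx⟩ := R.mem_W.1 hxU.2
  have hvx : B P.v x = 0 := (P.mem_W.1 hxU.1).1
  have hxc : x ∉ Submodule.span F {R.v} := fun hsp => hx0 (by
    obtain ⟨t, rfl⟩ := Submodule.mem_span_singleton.1 hsp
    rw [b_smul_right, R.hfv, mul_one] at hfx
    rw [hfx, zero_smul])
  obtain ⟨g, hg⟩ := exists_siegel hS.nondeg R.hv hcx
  have hgv : ap g P.v = P.v := siegel_fix hg hvc hvx
  obtain ⟨y, hyW, hy⟩ := hC.exists_tr (siegel_mem_El hg) (a := 1) (by rw [one_smul]; exact hgv)
  -- fixed by the involution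
  have hgW : ap g y ∈ P.W := by
    rw [siegel_ap hg]
    exact P.W.sub_mem (P.W.sub_mem (P.W.add_mem hyW (P.W.smul_mem _ hxU.1)) (P.W.smul_mem _ hcW))
      (P.W.smul_mem _ hcW)
  have hgg : g * g = 1 := by
    have h := siegel_mul hg hg
    rw [show x + x = 0 by rw [← two_smul F, h20, zero_smul]] at h
    exact siegel_unique h (siegel_one R.hv)
  have h1 := tr_mul hgv hy hy
  rw [hgg] at h1
  have hfix := hC.tr_unique (P.W.add_mem hyW hgW) P.W.zero_mem h1 ⟨1, siegel_one P.hv, by rw [one_mul]; exact one_mem M⟩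
  rw [add_eq_zero_iff_eq_neg, hneg] at hfix
  rw [siegel_ap hg] at hfix
  have hyc : B y R.v = 0 := by
    by_contra hne
    refine hxc ((Submodule.smul_mem_iff _ hne).1 ?_)
    rw [show B y R.v • x = (B y x + Q x * B y R.v) • R.v by linear_combination (norm := module) -hfix]
    exact Submodule.smul_mem _ _ (Submodule.mem_span_singleton_self _)
  have hyx : B y x = 0 := by
    rw [hyc] at hfix
    by_contra hne
    exact R.v_ne ((smul_eq_zero.1 (show B y x • R.v = 0 by linear_combination (norm := module) hfix)).resolve_left hne)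
  have hye := R.eq_pW (x := y) (by rw [b_comm]; exact hyc)
  obtain ⟨t, ht⟩ : ∃ t : F, R.pW y = t • x := by
    by_contra hne
    push Not at hne
    have huU : R.pW y ∈ P.W ⊓ R.W :=
      ⟨P.W.sub_mem (P.W.sub_mem hyW (P.W.smul_mem _ hcW)) (P.W.smul_mem _ hRf), R.pW_mem y⟩
    have hux : B x (R.pW y) = 0 := by
      rw [HP.pW, b_sub_right, b_sub_right, b_smul_right, b_smul_right, b_comm x y, hyx,
        b_comm x R.v, hcx, b_comm x R.f, hfx]
      ring
    have hspan : Submodule.span F (Set.range ![x, R.pW y]) = P.W ⊓ R.W := by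
      refine Submodule.eq_of_le_of_finrank_eq (Submodule.span_le.2 ?_) ?_
      · rintro _ ⟨i, rfl⟩; fin_cases i; exacts [hxU, huU]
      · rw [finrank_span_eq_card (pair_indep hx0 fun h => by
          obtain ⟨t, ht⟩ := Submodule.mem_span_singleton.1 h
          exact hne t ht.symm), Fintype.card_fin, hd]
    refine hx0 (hUn x hxU fun z hz => ?_)
    rw [← hspan] at hz
    obtain ⟨e, rfl⟩ := Submodule.mem_span_range_iff_exists_fun F |>.1 hz
    simp only [Fin.sum_univ_two, Matrix.cons_val_zero, Matrix.cons_val_one, b_add_right, b_smul_right,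
      hux, b_self, h20, zero_mul, mul_zero, add_zero]
  rw [ht] at hye
  obtain ⟨a, ha⟩ : ∃ a, a = B R.f y + t * Q x := ⟨_, rfl⟩
  obtain ⟨s, hs, hsM⟩ := hy
  obtain ⟨r, hr⟩ := exists_siegel hS.nondeg P.hv (v := a • R.v) (by rw [b_smul_right, hvc, mul_zero])
  obtain ⟨j, hj⟩ := exists_siegel hS.nondeg P.hv (v := t • x - (t * Q x) • R.v) (by
    rw [b_sub_right, b_smul_right, b_smul_right, hvc, hvx]; ring)
  have hsplit := siegel_mul hr hj
  rw [show a • R.v + (t • x - (t * Q x) • R.v) = y by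
    conv_rhs => rw [hye]
    rw [ha]; module] at hsplit
  have hjoin := siegel_join P.hv R.hv hvc hvx hcx hj hg
  have hswap : IsSiegel (R.v + t • P.v) (-(a • P.v)) r := by
    have h1 : IsSiegel (a • R.v) (-P.v) r := siegel_swap P.hv (by rw [q_smul, R.hv, mul_zero]) hr
    obtain ⟨l, hl⟩ := exists_siegel hS.nondeg R.hv (v := -P.v) (by
      rw [← neg_one_smul F P.v, b_smul_right, b_comm, hvc, mul_zero])
    have h2 := siegel_smul hl a h1
    rw [smul_neg] at h2
    obtain ⟨i, hi⟩ := exists_siegel hS.nondeg P.hv (v := t • -(a • P.v) - (t * Q (-(a • P.v))) • R.v) (by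
      simp only [QuadraticMap.map_neg, q_smul, P.hv, mul_zero, zero_smul, sub_zero]
      rw [show t • -(a • P.v) = (-(t * a)) • P.v by module, b_smul_right, b_self_zero P.hv, mul_zero])
    have h3 := siegel_join P.hv R.hv hvc
      (by rw [show -(a • P.v) = (-a) • P.v by module, b_smul_right, b_self_zero P.hv, mul_zero])
      (by rw [show -(a • P.v) = (-a) • P.v by module, b_smul_right, b_comm, hvc, mul_zero]) hi h2
    have hi1 : i = 1 := by
      refine siegel_trivial hS.nondeg P.hv (-(t * a)) ?_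
      convert hi using 1
      simp only [QuadraticMap.map_neg, q_smul, P.hv, mul_zero, zero_smul, sub_zero]
      module
    rwa [hi1, one_mul] at h3
  have hfin := siegel_mul hswap hjoin
  have hne : R.v + t • P.v ≠ 0 := fun e => by
    have h := congrArg (B R.f) e
    rw [b_add_right, b_smul_right, R.hfv, show B R.f P.v = 0 by rw [b_comm]; exact (P.mem_W.1 hRf).1,
      mul_zero, add_zero, b_zero_right] at h
    exact one_ne_zero h
  refine ⟨_, hjoin.1, hne, hC.not_mem_orbit (x := -(a • P.v) + x) ⟨hfin.2.1, fun k hk => ?_⟩ fun hsp => ?_⟩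
  · rw [siegel_unique hk hfin, ← mul_assoc, siegel_unique hsplit hs]
    exact hsM
  · obtain ⟨e, he⟩ := Submodule.mem_span_singleton.1 hsp
    refine hx0 (hUn _ hxU fun z hz => ?_)
    have h := congrArg (fun w => B w z) he
    simp only [b_add_left, b_smul_left, (R.mem_W.1 hz.2).1, (P.mem_W.1 hz.1).1, ← neg_one_smul F (a • P.v)] at h
    linear_combination -h

/-- A transitive subgroup with a complement has index the size of the radical. -/
theorem MinusSix.index_transitive (hC : Compl P M hS.nondeg) (hME : M ≤ El Q)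
    (hall : ∀ z : ι → F, Q z = 0 → z ≠ 0 → z ∈ pointOrbit P M) : M.relIndex (El Q) = q ^ 4 := by
  classical
  refine le_antisymm ?_ ?_
  · choose s hs using fun x : P.W => exists_siegel hS.nondeg P.hv (P.mem_W.1 x.2).1
    rw [← hS.card_W P, Subgroup.relIndex, Subgroup.index_eq_card]
    refine Nat.card_le_card_of_surjective (fun x => QuotientGroup.mk ⟨s x, siegel_mem_El (hs x)⟩) fun C => ?_
    obtain ⟨g, rfl⟩ := QuotientGroup.mk_surjective C
    obtain ⟨m, hm, a, ha, he⟩ := hall (ap (g : Grp Q)⁻¹ P.v) (by rw [ap_q, P.hv])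
      fun e => P.v_ne (ap_inj _ (by rw [e, ap_zero]))
    have hgm : ap ((g : Grp Q) * m) P.v = a⁻¹ • P.v := by
      have h := congrArg (ap (g : Grp Q)) he
      rw [ap_ap_inv, ap_smul] at h
      rw [ap_mul]
      conv_rhs => rw [h]
      rw [smul_smul, inv_mul_cancel₀ ha, one_smul]
    obtain ⟨y, -, l, hl, hlM⟩ := hC.exists_tr (mul_mem g.2 (hME hm)) hgm
    refine ⟨⟨P.pW (-y), P.pW_mem _⟩, QuotientGroup.eq.2 ?_⟩
    rw [Subgroup.mem_subgroupOf]
    obtain ⟨l', hl'⟩ := exists_siegel hS.nondeg P.hv (v := -y) (by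
      rw [← neg_one_smul F y, b_smul_right, hl.2.1, mul_zero])
    have hinv : l⁻¹ = l' := inv_eq_of_mul_eq_one_right (by
      have h := siegel_mul hl hl'
      rw [add_neg_cancel] at h
      exact siegel_unique h (siegel_one P.hv))
    have hsl : s ⟨P.pW (-y), P.pW_mem _⟩ = l⁻¹ := by
      have h := siegel_add_self (hs ⟨P.pW (-y), P.pW_mem _⟩) (B P.f (-y))
      rw [← P.eq_pW hl'.2.1] at h
      rw [hinv, siegel_unique hl' h]
    show (s ⟨P.pW (-y), P.pW_mem _⟩)⁻¹ * (g : Grp Q) ∈ M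
    rw [hsl, inv_inv]
    have := mul_mem hlM (inv_mem hm)
    rwa [mul_assoc, mul_inv_cancel_right] at this
  · have h := P.near_orbit_one M hS.nondeg
    rw [card_eq_one_iff.2 hC.triv, mul_one, hS.card_W P] at h
    haveI : Nonempty (P.orbitA M hS.nondeg) := ⟨⟨_, 1, one_mem _, ap_one _, rfl⟩⟩
    exact ((Nat.le_mul_of_pos_right _ Nat.card_pos).trans h).trans (P.card_near_le M)

/-- Parameters neither trivial nor everything, over a prime field. -/
theorem MinusSix.near_prime (R : HP Q) (M : Subgroup (Grp Q)) (h23 : q = 2 ∨ q = 3)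
    (hne : ∃ a ∈ R.A M hS.nondeg, a ≠ 0) (hfull : ∃ x ∈ R.W, x ∉ R.A M hS.nondeg) :
    q ^ 3 + q ≤ Nat.card (R.near M) := by
  classical
  cases nonempty_fintype F
  have hp : Nat.Prime q := by rcases h23 with h | h <;> rw [h] <;> norm_num
  let A' : Submodule F (ι → F) :=
    { carrier := {x | x ∈ R.A M hS.nondeg}
      add_mem' := fun ha hb => (R.A M hS.nondeg).add_mem ha hb
      zero_mem' := (R.A M hS.nondeg).zero_mem
      smul_mem' := fun c x hx => by
        obtain ⟨n, rfl⟩ := cast_surjective hp c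
        rw [Set.mem_setOf_eq, Nat.cast_smul_eq_nsmul]
        exact AddSubgroup.nsmul_mem _ hx n }
  have hAc : Nat.card (R.A M hS.nondeg) = q ^ Module.finrank F A' := card_subspace A'
  have hlt : A' < R.W := lt_of_le_of_ne (fun x hx => hx.1) fun e => by
    obtain ⟨x, hx, hxn⟩ := hfull
    exact hxn (e.ge hx)
  have hd4 := Submodule.finrank_lt_finrank_of_lt hlt
  rw [hS.finrank_W R] at hd4
  obtain ⟨a, ha, ha0⟩ := hne
  have hd1 : 1 ≤ Module.finrank F A' :=
    Submodule.one_le_finrank_iff.2 fun e => ha0 ((Submodule.eq_bot_iff _).1 e a ha)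
  have hn : ∀ c : F, Nat.card {x : ι → F // x ∈ R.A M hS.nondeg ∧ x ≠ 0 ∧ Q x = c} + 1 ≤
      q ^ Module.finrank F A' := fun c => by
    rw [← hAc, ← Finite.card_option]
    refine Nat.card_le_card_of_injective (fun o : Option {x : ι → F // x ∈ R.A M hS.nondeg ∧ x ≠ 0 ∧ Q x = c} =>
      (o.elim 0 fun x => ⟨x.1, x.2.1⟩ : R.A M hS.nondeg)) fun u v h => ?_
    have h' := congrArg Subtype.val h
    rcases u with _ | u <;> rcases v with _ | v <;> simp only [Option.elim, AddSubgroup.coe_zero] at h'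
    · rfl
    · exact absurd h'.symm v.2.2.1
    · exact absurd h' u.2.2.1
    · exact congrArg some (Subtype.ext h')
  have hlev : ∀ c : F, c ≠ 0 → q ^ 4 + q ^ 2 ≤
      q * Nat.card {x : ι → F // x ∈ R.W ∧ x ≠ 0 ∧ Q x = c} := fun c hc => by
    refine (lev_minus_ge hS.nondeg h23 2 R.W (R.nondeg hS.nondeg) (hS.finrank_W R) (hS.no_half R) c hc).trans
      (Nat.mul_le_mul_left _ ?_)
    exact Nat.card_le_card_of_injective (fun x : {x : R.W // Q (x : ι → F) = c} =>
        (⟨((x : R.W) : ι → F), x.1.2, fun e => hc (by rw [← x.2, e, QuadraticMap.map_zero]), x.2⟩ :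
          {x : ι → F // x ∈ R.W ∧ x ≠ 0 ∧ Q x = c}))
      fun a b e => Subtype.ext (Subtype.ext (congrArg
        (fun z : {x : ι → F // x ∈ R.W ∧ x ≠ 0 ∧ Q x = c} => (z : ι → F)) e))
  rcases (show Module.finrank F A' = 1 ∨ Module.finrank F A' = 2 ∨ Module.finrank F A' = 3 by omega) with
    hd | hd | hd
  · -- a line
    have h := (Nat.mul_le_mul_left (q ^ 4) (hS.le_card_level R (Q a))).trans
      (hS.near_single R M ⟨a, ha, ha0, rfl⟩)
    have h1 := hn (Q a)
    rw [hAc, hd, pow_one] at h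
    rw [hd, pow_one] at h1
    have h3 := h.trans (Nat.mul_le_mul_left _ (Nat.mul_le_mul_left q (show _ ≤ q - 1 by omega)))
    rcases h23 with e | e <;> rw [e] at h3 ⊢ <;> norm_num at h3 ⊢ <;> omega
  · -- a plane
    by_cases hsing : ∃ b ∈ R.A M hS.nondeg, b ≠ 0 ∧ Q b = 0
    · obtain ⟨b, hb, hb0, hbq⟩ := hsing
      have hn2 : Nat.card {x : ι → F // x ∈ R.A M hS.nondeg ∧ x ≠ 0 ∧ Q x = 0} ≤ 2 * (q - 1) := by
        obtain ⟨b', hb'q, hcover⟩ : ∃ b' : ι → F, Q b' = 0 ∧ ∀ x ∈ R.A M hS.nondeg, x ≠ 0 → Q x = 0 →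
            x ∈ Submodule.span F {b} ∨ x ∈ Submodule.span F {b'} := by
          by_cases h1 : ∀ x ∈ R.A M hS.nondeg, Q x = 0 → x ∈ Submodule.span F {b}
          · exact ⟨b, hbq, fun x hx _ hxq => Or.inl (h1 x hx hxq)⟩
          push Not at h1
          obtain ⟨b', hb', hb'q, hb'n⟩ := h1
          refine ⟨b', hb'q, fun x hx _ hxq => ?_⟩
          have hspan : Submodule.span F (Set.range ![b, b']) = A' := by
            refine Submodule.eq_of_le_of_finrank_eq (Submodule.span_le.2 ?_) ?_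
            · rintro _ ⟨i, rfl⟩; fin_cases i; exacts [hb, hb']
            · rw [finrank_span_eq_card (pair_indep hb0 hb'n), Fintype.card_fin, hd]
          have hxA : x ∈ A' := hx
          rw [← hspan] at hxA
          obtain ⟨e, rfl⟩ := Submodule.mem_span_range_iff_exists_fun F |>.1 hxA
          simp only [Fin.sum_univ_two, Matrix.cons_val_zero, Matrix.cons_val_one, q_add, q_smul,
            b_smul_left, b_smul_right, hbq, hb'q, mul_zero, zero_add] at hxq ⊢
          have hbb : B b b' ≠ 0 := fun e0 => hb'n (hS.mem_line R hb.1 hb'.1 hb0 hbq hb'q e0)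
          rcases mul_eq_zero.1 hxq with e0 | e0
          · rw [e0, zero_smul, add_zero]
            exact Or.inl (Submodule.smul_mem _ _ (Submodule.mem_span_singleton_self _))
          · rw [(mul_eq_zero.1 e0).resolve_right hbb, zero_smul, zero_add]
            exact Or.inr (Submodule.smul_mem _ _ (Submodule.mem_span_singleton_self _))
        have hc : ∀ {z : ι → F}, Nat.card {x : ι → F // x ≠ 0 ∧ x ∈ Submodule.span F {z}} ≤ q - 1 := by
          intro z
          rw [← Nat.card_units]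
          refine Nat.card_le_card_of_injective (fun x => Units.mk0 (Submodule.mem_span_singleton.1 x.2.2).choose
            fun e0 => x.2.1 ?_) fun u v h => ?_
          · rw [← (Submodule.mem_span_singleton.1 x.2.2).choose_spec, e0, zero_smul]
          · refine Subtype.ext ?_
            rw [← (Submodule.mem_span_singleton.1 u.2.2).choose_spec,
              ← (Submodule.mem_span_singleton.1 v.2.2).choose_spec]
            exact congrArg (· • z) (congrArg Units.val h)
        refine le_trans (Nat.card_le_card_of_injective (fun x : {x : ι → F // x ∈ R.A M hS.nondeg ∧ x ≠ 0 ∧ Q x = 0} =>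
          if h : x.1 ∈ Submodule.span F {b} then
            (Sum.inl ⟨x.1, x.2.2.1, h⟩ : {x : ι → F // x ≠ 0 ∧ x ∈ Submodule.span F {b}} ⊕
              {x : ι → F // x ≠ 0 ∧ x ∈ Submodule.span F {b'}})
          else Sum.inr ⟨x.1, x.2.2.1, (hcover _ x.2.1 x.2.2.1 x.2.2.2).resolve_left h⟩) fun u v h => ?_) ?_
        · dsimp only at h
          split_ifs at h
          · exact Subtype.ext (congrArg (fun z : {x : ι → F // x ≠ 0 ∧ x ∈ Submodule.span F {b}} => (z : ι → F)) (Sum.inl.inj h))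
          · exact Subtype.ext (congrArg (fun z : {x : ι → F // x ≠ 0 ∧ x ∈ Submodule.span F {b'}} => (z : ι → F)) (Sum.inr.inj h))
        · rw [Nat.card_sum, two_mul]
          exact Nat.add_le_add hc hc
      have h := hS.near_single R M (c := 0) ⟨b, hb, hb0, hbq⟩
      rw [hS.card_singular R, hAc, hd] at h
      have h3 := h.trans (Nat.mul_le_mul_left _ (Nat.mul_le_mul_left _ hn2))
      rcases h23 with e | e <;> rw [e] at h3 ⊢ <;> norm_num at h3 ⊢ <;> omega
    · push Not at hsing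
      have hqa : Q a ≠ 0 := hsing a ha ha0
      have h := hS.near_single R M (c := Q a) ⟨a, ha, ha0, rfl⟩
      have h1 := hn (Q a)
      rw [hd] at h1
      rw [hAc, hd] at h
      have h2 := hlev _ hqa
      have h3 := h.trans (Nat.mul_le_mul_left _ (Nat.mul_le_mul_left _ (show _ ≤ q ^ 2 - 1 by omega)))
      rcases h23 with e | e <;> rw [e] at h2 h3 ⊢ <;> norm_num at h2 h3 ⊢ <;> omega
  · -- a hyperplane
    have h1 := finrank_relOrth hS.nondeg R.W A'
    rw [hS.finrank_W R, hd] at h1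
    obtain ⟨w, hw, hw0⟩ := (relOrth Q R.W A').exists_mem_ne_zero_of_ne_bot fun e => by
      rw [e, finrank_bot] at h1; omega
    refine hS.near_hyperplane R M hw.1 hw0 fun x hx =>
      ⟨fun hxA => by rw [b_comm]; exact hw.2 x hxA, fun hwx => ?_⟩
    have hle : A' ≤ R.W ⊓ orth Q (Submodule.span F {w}) := fun z hz => ⟨hz.1, mem_orth_span.2 fun v hv => by
      rw [Set.mem_singleton_iff.1 hv, b_comm]; exact hw.2 z hz⟩
    have hlt' : R.W ⊓ orth Q (Submodule.span F {w}) < R.W := lt_of_le_of_ne inf_le_left fun e => hw0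
      (R.nondeg hS.nondeg w hw.1 fun z hz => mem_orth_span.1 (e.ge hz).2 w rfl)
    have h2 := Submodule.finrank_lt_finrank_of_lt hlt'
    rw [hS.finrank_W R] at h2
    have heq := Submodule.eq_of_le_of_finrank_le hle (by omega)
    show x ∈ A'
    rw [heq]
    exact ⟨hx, mem_orth_span.2 fun v hv => by rw [Set.mem_singleton_iff.1 hv]; exact hwx⟩

/-- A point outside the orbit gives the bound. -/
theorem MinusSix.bound_of_outside (h23 : q = 2 ∨ q = 3) (hM : ¬ El Q ≤ M) (hC : Compl P M hS.nondeg)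
    {z : ι → F} (hzq : Q z = 0) (hz0 : z ≠ 0) (hz : z ∉ pointOrbit P M) :
    (q + 1) * (q ^ 3 + 1) ≤ M.relIndex (El Q) := by
  classical
  obtain ⟨R, rfl⟩ := exists_HP hS.nondeg hzq hz0
  by_cases hA : ∀ x ∈ R.A M hS.nondeg, x = 0
  · rcases R.compl_or M hS.nondeg hS.dim hA with hR | h
    swap
    · exact hS.two_pow_ge.trans h
    refine hS.two_bound hC hz ?_
    have h := R.near_orbit_one M hS.nondeg
    rw [card_eq_one_iff.2 hR.triv, mul_one, hS.card_W R] at h
    haveI : Nonempty (R.orbitA M hS.nondeg) := ⟨⟨_, 1, one_mem _, ap_one _, rfl⟩⟩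
    refine le_trans ?_ ((Nat.le_mul_of_pos_right _ Nat.card_pos).trans h)
    rcases h23 with e | e <;> rw [e] <;> norm_num
  push Not at hA
  by_cases hfull : ∃ x ∈ R.W, x ∉ R.A M hS.nondeg
  · exact hS.two_bound hC hz (hS.near_prime R M h23 hA hfull)
  push Not at hfull
  -- a neighbour without the whole radical
  obtain ⟨s, f, hsW, hfW, -, hsq, hfq, hsf⟩ := exists_pair_in hS.nondeg (R.nondeg hS.nondeg) (P := ⊥) bot_le
    (by rw [finrank_bot, hS.finrank_W R]; norm_num)
  have key : ∀ u ∈ R.W, Q u = 0 → u ≠ 0 → ∀ S : HP Q, S.v = u →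
      S.v ∉ pointOrbit P M ∧ ∃ a ∈ S.A M hS.nondeg, a ≠ 0 := by
    intro u hu huq hu0 S hSv
    have h1 := inM_swap M hS.nondeg R.hv huq (hfull u hu).2
    have h2 : -R.v ∉ Submodule.span F {u} := fun hsp => by
      obtain ⟨t, ht⟩ := Submodule.mem_span_singleton.1 hsp
      have h3 := congrArg (B R.f) ht
      rw [b_smul_right, (R.mem_W.1 hu).2, mul_zero, ← neg_one_smul F R.v, b_smul_right, R.hfv, mul_one] at h3
      exact neg_ne_zero.2 one_ne_zero h3.symm
    rw [← hSv] at h1 h2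
    exact ⟨hC.not_mem_orbit h1 h2, S.exists_mem_A M hS.nondeg h1 h2⟩
  have hs0 : s ≠ 0 := fun e => zero_ne_one (α := F) (by rw [← hsf, e, b_zero_left])
  have hf0 : f ≠ 0 := fun e => zero_ne_one (α := F) (by rw [← hsf, e, b_zero_right])
  obtain ⟨k1, k2⟩ := key s hsW.1 hsq hs0 ⟨s, f, hsq, hfq, hsf⟩ rfl
  obtain ⟨l1, l2⟩ := key f hfW.1 hfq hf0 ⟨f, s, hfq, hsq, by rw [b_comm, hsf]⟩ rfl
  by_cases h1 : ∃ x ∈ (⟨s, f, hsq, hfq, hsf⟩ : HP Q).W, x ∉ (⟨s, f, hsq, hfq, hsf⟩ : HP Q).A M hS.nondeg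
  · exact hS.two_bound hC k1 (hS.near_prime _ M h23 k2 h1)
  by_cases h2 : ∃ x ∈ (⟨f, s, hfq, hsq, by rw [b_comm, hsf]⟩ : HP Q).W,
      x ∉ (⟨f, s, hfq, hsq, by rw [b_comm, hsf]⟩ : HP Q).A M hS.nondeg
  · exact hS.two_bound hC l1 (hS.near_prime _ M h23 l2 h2)
  push Not at h1 h2
  have hall : ∀ S : HP Q, (∀ x ∈ S.W, x ∈ S.A M hS.nondeg) → ∀ x g, IsSiegel S.v x g → g ∈ M := by
    intro S hS' x g hg
    have h := inM_add M hS.nondeg (hS' _ (S.pW_mem x)).2 (inM_self M hS.nondeg S.hv (B S.f x))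
    rw [← S.eq_pW hg.2.1] at h
    exact h.2 g hg
  exact absurd (El_le_of_two hS.nondeg hsq hfq (by rw [hsf]; exact one_ne_zero)
    (hall _ h1) (hall _ h2)) hM

/-- The bound, with one exception over three elements. -/
theorem MinusSix.index_bound {M : Subgroup (Grp Q)} (hM : ¬ El Q ≤ M) :
    (q + 1) * (q ^ 3 + 1) ≤ M.relIndex (El Q) ∨ (q = 3 ∧ M.relIndex (El Q) = 81) := by
  classical
  have hrel : (M ⊓ El Q).relIndex (El Q) = M.relIndex (El Q) := Subgroup.inf_relIndex_right M (El Q)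
  have hM' : ¬ El Q ≤ M ⊓ El Q := fun h => hM (h.trans inf_le_left)
  rw [← hrel]
  rcases hS.exists_compl hM' with h | ⟨P, hC⟩
  · exact Or.inl h
  have hq2 := two_le_card (F := F)
  rcases Nat.lt_or_ge q 4 with hq | hq
  swap
  · exact Or.inl (hS.bound_of_four hq hC)
  rcases (show q = 2 ∨ q = 3 by omega) with h2 | h3
  · obtain ⟨z, hzq, hz0, hz⟩ := hS.exists_outside_two hC h2
    exact Or.inl (hS.bound_of_outside (Or.inl h2) hM' hC hzq hz0 hz)
  by_cases hall : ∀ z : ι → F, Q z = 0 → z ≠ 0 → z ∈ pointOrbit P (M ⊓ El Q)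
  · refine Or.inr ⟨h3, ?_⟩
    rw [hS.index_transitive hC inf_le_right hall, h3]
    norm_num
  push Not at hall
  obtain ⟨z, hzq, hz0, hz⟩ := hall
  exact Or.inl (hS.bound_of_outside (Or.inr h3) hM' hC hzq hz0 hz)

end CfsgLib.MinIndexOrth
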